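import Groth.Agent.Sga3.H796.ConjLoc
import Groth.Agent.Sga3B.AlgBc

/-!
# S4116 from conjugacy of maximal tori over algebraically closed fields
-/

set_option autoImplicit false
universe u
open CategoryTheory MonoidalCategory CartesianMonoidalCategory MonObj GrpObj AlgebraicGeometry Limits

namespace Groth.Agent.Sga3.H796.S4116Of

open Groth.Agent.Sga3B

/-- Conjugacy of maximal tori over an algebraically closed field. -/
def ConjField (K : Type u) [Field K] : Prop :=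
  ∀ (G T₁ T₂ : Over (Spec (CommRingCat.of K))) [GrpObj G] [GrpObj T₁] [GrpObj T₂] [Smooth G.hom]
    [IsSeparated G.hom] [QuasiCompact G.hom] (i₁ : T₁ ⟶ G) (i₂ : T₂ ⟶ G),
    Red.IsMaximalTorus i₁ → Red.IsMaximalTorus i₂ →
    ∃ g : 𝟙_ (Over (Spec (CommRingCat.of K))) ⟶ G, SGA3x.ConjBy i₁ i₂ g

theorem conj_etale_locally (H : ∀ (K : Type u) [Field K] [IsAlgClosed K], ConjField K)
    (S : Scheme.{u}) (G : Over S) [GrpObj G]
    [Smooth G.hom] [IsSeparated G.hom] [QuasiCompact G.hom]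
    (T₁ T₂ : Over S) [GrpObj T₁] [GrpObj T₂] (i₁ : T₁ ⟶ G) (i₂ : T₂ ⟶ G)
    (h₁ : Red.IsMaximalTorus i₁) (h₂ : Red.IsMaximalTorus i₂) :
    ∃ (S' : Scheme.{u}) (f : S' ⟶ S), Etale f ∧ Surjective f ∧
      ∃ g : 𝟙_ (Over S') ⟶ Red.bc f G, SGA3x.ConjBy ((Over.pullback f).map i₁) ((Over.pullback f).map i₂) g := by
  have := h₁.1
  have := h₂.1
  have := h₁.2.1
  have := h₂.2.1
  refine ConjLoc.exists_etale_conjBy i₁ i₂ h₁.2.2.1 h₂.2.2.1 fun s => ?_
  have : Smooth (Red.bc (Red.geomPt s) G).hom := inferInstanceAs (Smooth (pullback.snd _ _))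
  have : IsSeparated (Red.bc (Red.geomPt s) G).hom := inferInstanceAs (IsSeparated (pullback.snd _ _))
  have : QuasiCompact (Red.bc (Red.geomPt s) G).hom := inferInstanceAs (QuasiCompact (pullback.snd _ _))
  exact H _ _ _ _ _ _ (AlgBc.isMaximalTorus_bc (Red.geomPt s) h₁) (AlgBc.isMaximalTorus_bc (Red.geomPt s) h₂)

end Groth.Agent.Sga3.H796.S4116Of
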