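import Groth.Agent.Sga3.H796.Frame
import Groth.Agent.Sga3.H797.HomFin
import Groth.Agent.FlatA.EtaleSections

/-!
# The open subscheme of frames of maximal tori in `Hom(Γ, G)`

`H = Hom(Γ, G)`, `Γ` a finite group of order invertible on `S`, `G` smooth; `φ : Γ → G(Y)` a homomorphism, `Y` étale
over `S`.

* `act`, `actH`: the action of `MulAut Γ` on `H`;
* `orb : G ⊗ Y ⟶ H` the orbit map of `φ`; it is smooth;
* `PO`: the open subset of `H`, union of the translates of the image of `orb`.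
-/

set_option autoImplicit false
universe u

open CategoryTheory MonoidalCategory CartesianMonoidalCategory MonObj GrpObj AlgebraicGeometry Limits Opposite

namespace Groth.Agent.Sga3.H796.Orbit

open Groth.Agent.Sga3B Groth.Agent.Sga3.H796.AbsRep Groth.Agent.Sga3.H796.Frame Groth.Agent.Sga3.H797
  Groth.Agent.Sga3.H797.HomFin

variable {S : Scheme.{u}}

/-- étale local sections of smooth morphisms -/
lemma loc_of_smooth {X H W : Over S} (w : W ⟶ H) [Smooth w.left] (x : X ⟶ H) (t : X.left)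
    (ht : x.left t ∈ Set.range w.left) : Loc t (fun X' f => ∃ v : X' ⟶ W, v ≫ w = f ≫ x) := by
  obtain ⟨p, hp⟩ := ht
  obtain ⟨z, hz1, -⟩ := Scheme.Pullback.exists_preimage_pullback (f := x.left) (g := w.left) t p hp.symm
  obtain ⟨X', e, t', he, ht', h, hh⟩ := FlatA.EtaleSections.exists_section (pullback.fst x.left w.left) t ⟨z, hz1⟩
  refine ⟨Over.mk (e ≫ X.hom), Over.homMk e rfl, he, ⟨t', ht'⟩,
    Over.homMk (h ≫ pullback.snd x.left w.left) ?_, ?_⟩
  · change (h ≫ pullback.snd x.left w.left) ≫ W.hom = e ≫ X.hom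
    rw [← Over.w w, Category.assoc, ← Category.assoc (pullback.snd _ _), ← pullback.condition, Category.assoc,
      Over.w x, ← Category.assoc, hh]
  · apply Over.OverMorphism.ext
    change (h ≫ pullback.snd x.left w.left) ≫ w.left = e ≫ x.left
    rw [Category.assoc, ← pullback.condition, ← Category.assoc, hh]

variable {G : Over S} [GrpObj G] {Γ : Type*} [Group Γ] {H : Over S} {υ : Γ →* (H ⟶ G)}

section hom

variable (hH : IsHomScheme G Γ H υ)

/-- the point of `H` given by a homomorphism -/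
noncomputable def toH {T : Over S} (φ : Γ →* (T ⟶ G)) : T ⟶ H := (hH.existsUnique T φ).choose

@[simp] lemma toH_comp {T : Over S} (φ : Γ →* (T ⟶ G)) (γ : Γ) : toH hH φ ≫ υ γ = φ γ :=
  (hH.existsUnique T φ).choose_spec.1 γ

include hH in
lemma H_ext {T : Over S} {a b : T ⟶ H} (h : ∀ γ, a ≫ υ γ = b ≫ υ γ) : a = b :=
  (hH.existsUnique T ((InfChart.pre G b).comp υ)).unique (fun γ => h γ) (fun _ => rfl)

/-- the action of an automorphism of `Γ` on `H` -/
noncomputable def act (α : MulAut Γ) : H ⟶ H := toH hH (υ.comp α⁻¹.toMonoidHom)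

@[simp] lemma act_comp (α : MulAut Γ) (γ : Γ) : act hH α ≫ υ γ = υ (α⁻¹ γ) := toH_comp hH _ γ

lemma act_one : act hH 1 = 𝟙 H := H_ext hH fun γ => by
  rw [act_comp, Category.id_comp, inv_one, MulAut.one_apply]

lemma act_mul (α β : MulAut Γ) : act hH (α * β) = act hH β ≫ act hH α := H_ext hH fun γ => by
  rw [act_comp, Category.assoc, act_comp, act_comp, _root_.mul_inv_rev, MulAut.mul_apply]

@[reassoc] lemma act_inv_act (α : MulAut Γ) : act hH α⁻¹ ≫ act hH α = 𝟙 H := by
  rw [← act_mul, mul_inv_cancel, act_one]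

@[reassoc] lemma act_act_inv (α : MulAut Γ) : act hH α ≫ act hH α⁻¹ = 𝟙 H := by
  rw [← act_mul, inv_mul_cancel, act_one]

/-- the action as a homomorphism -/
noncomputable def actH : MulAut Γ →* Aut H where
  toFun α := ⟨act hH α, act hH α⁻¹, act_act_inv hH α, act_inv_act hH α⟩
  map_one' := Iso.ext (act_one hH)
  map_mul' α β := Iso.ext (act_mul hH α β)

@[simp] lemma actH_hom (α : MulAut Γ) : (actH hH α).hom = act hH α := rfl

end hom

section orbit

variable (hH : IsHomScheme G Γ H υ) {Y : Over S} (φ : Γ →* (Y ⟶ G))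

/-- The orbit of `φ`, as a homomorphism over `G ⊗ Y`. -/
noncomputable def orbHom : Γ →* (G ⊗ Y ⟶ G) :=
  (MulAut.conj (fst G Y)).toMonoidHom.comp ((InfChart.pre G (snd G Y)).comp φ)

lemma orbHom_apply (γ : Γ) : orbHom φ γ = fst G Y * (snd G Y ≫ φ γ) * (fst G Y)⁻¹ := rfl

/-- The orbit map. -/
noncomputable def orb : G ⊗ Y ⟶ H := toH hH (orbHom φ)

lemma comp_orb {Z : Over S} (w : Z ⟶ G ⊗ Y) (γ : Γ) :
    w ≫ orb hH φ ≫ υ γ = (w ≫ fst G Y) * ((w ≫ snd G Y) ≫ φ γ) * (w ≫ fst G Y)⁻¹ := by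
  rw [orb, toH_comp, orbHom_apply, MonObj.comp_mul, MonObj.comp_mul, GrpObj.comp_inv, Category.assoc]

/-- The orbit map is smooth. -/
theorem smooth_orb [Finite Γ] [Smooth G.hom] [LocallyOfFinitePresentation H.hom] (hn : Inv (Nat.card Γ) S)
    [Etale Y.hom] : Smooth (orb hH φ).left := by
  let o : G ⊗ Y ⟶ H ⊗ Y := lift (orb hH φ) (snd G Y)
  have h1 : Smooth o.left := smooth_orbit hH hn φ o (lift_snd _ _) (fun γ => by
    rw [lift_fst_assoc, orb, toH_comp, orbHom_apply])
  have h2 : Etale (fst H Y).left := inferInstanceAs (Etale (pullback.fst H.hom Y.hom))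
  have h3 : (orb hH φ).left = o.left ≫ (fst H Y).left := by
    rw [← Over.comp_left, lift_fst]
  rw [h3]
  infer_instance

variable [Finite Γ] [Smooth G.hom] [LocallyOfFinitePresentation H.hom] (hn : Inv (Nat.card Γ) S) [Etale Y.hom]

include hn in
lemma isOpen_range_orb : IsOpen (Set.range (orb hH φ).left) := by
  have := smooth_orb hH φ hn
  exact (orb hH φ).left.isOpenMap.isOpen_range

/-- The union of the translates of the orbit. -/
noncomputable def PO : H.left.Opens where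
  carrier := ⋃ α : MulAut Γ, (act hH α).left ⁻¹' Set.range (orb hH φ).left
  is_open' := isOpen_iUnion fun α => (isOpen_range_orb hH φ hn).preimage (act hH α).left.continuous

lemma mem_PO (x : H.left) : x ∈ PO hH φ hn ↔ ∃ α : MulAut Γ, (act hH α).left x ∈ Set.range (orb hH φ).left :=
  Set.mem_iUnion

/-- local structure of the points of `PO` -/
theorem loc_of_mem {X : Over S} (x : X ⟶ H) (t : X.left) (ht : x.left t ∈ PO hH φ hn) :
    Loc t (fun X' f => ∃ (a : X' ⟶ Y) (g : X' ⟶ G) (α : MulAut Γ), ∀ γ,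
      f ≫ x ≫ υ γ = g * (a ≫ φ (α γ)) * g⁻¹) := by
  obtain ⟨α, hα⟩ := (mem_PO hH φ hn _).1 ht
  have := smooth_orb hH φ hn
  have h1 : (x ≫ act hH α).left t ∈ Set.range (orb hH φ).left := by
    rw [Over.comp_left, Scheme.Hom.comp_apply]
    exact hα
  refine (loc_of_smooth (orb hH φ) (x ≫ act hH α) t h1).mono ?_
  rintro X' f ⟨v, hv⟩
  refine ⟨v ≫ snd G Y, v ≫ fst G Y, α, fun γ => ?_⟩
  rw [← comp_orb hH φ v (α γ), ← Category.assoc v, hv, Category.assoc, Category.assoc, act_comp,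
    MulAut.inv_apply_self]

/-- converse -/
theorem mem_of_loc {X : Over S} (x : X ⟶ H) (t : X.left)
    (h : Loc t (fun X' f => ∃ (a : X' ⟶ Y) (g : X' ⟶ G) (α : MulAut Γ), ∀ γ,
      f ≫ x ≫ υ γ = g * (a ≫ φ (α γ)) * g⁻¹)) : x.left t ∈ PO hH φ hn := by
  obtain ⟨X', f, hf, ⟨t', ht'⟩, a, g, α, hα⟩ := h
  refine (mem_PO hH φ hn _).2 ⟨α, ((lift g a : X' ⟶ G ⊗ Y).left t'), ?_⟩
  have h1 : (lift g a : X' ⟶ G ⊗ Y) ≫ orb hH φ = f ≫ x ≫ act hH α := by
    refine H_ext hH fun γ => ?_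
    rw [Category.assoc, comp_orb, lift_fst, lift_snd, Category.assoc, Category.assoc, act_comp, hα,
      MulAut.apply_inv_self]
  rw [← Scheme.Hom.comp_apply, ← Over.comp_left, h1, Over.comp_left, Over.comp_left, Scheme.Hom.comp_apply,
    Scheme.Hom.comp_apply, ht']

/-- The open subscheme, over `S`. -/
noncomputable def P : Over S := Over.mk ((PO hH φ hn).ι ≫ H.hom)

/-- its inclusion -/
noncomputable def jP : P hH φ hn ⟶ H := Over.homMk (PO hH φ hn).ι rfl

instance : IsOpenImmersion (jP hH φ hn).left := inferInstanceAs (IsOpenImmersion (PO hH φ hn).ι)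

instance : Mono (jP hH φ hn) := Over.mono_of_mono_left _

lemma mem_range_jP (x : H.left) : x ∈ Set.range (jP hH φ hn).left ↔ x ∈ PO hH φ hn := by
  have h : Set.range (jP hH φ hn).left = (PO hH φ hn : Set H.left) := Scheme.Opens.range_ι (PO hH φ hn)
  rw [h]
  rfl

lemma exists_lift_P {X : Over S} (x : X ⟶ H) (h : ∀ t, x.left t ∈ PO hH φ hn) : ∃ x' : X ⟶ P hH φ hn,
    x' ≫ jP hH φ hn = x := by
  have hr : Set.range x.left ⊆ Set.range (jP hH φ hn).left := by
    rintro _ ⟨t, rfl⟩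
    exact (mem_range_jP hH φ hn _).2 (h t)
  have h1 := IsOpenImmersion.lift_fac (jP hH φ hn).left x.left hr
  refine ⟨Over.homMk (IsOpenImmersion.lift (jP hH φ hn).left x.left hr) ?_, Over.OverMorphism.ext h1⟩
  rw [← Over.w (jP hH φ hn), ← Category.assoc, h1, Over.w]

lemma comp_jP_mem {X : Over S} (x : X ⟶ P hH φ hn) (t : X.left) :
    (x ≫ jP hH φ hn).left t ∈ PO hH φ hn := by
  rw [Over.comp_left, Scheme.Hom.comp_apply, ← mem_range_jP]
  exact ⟨_, rfl⟩

/-- `P` is stable under the action. -/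
lemma act_mem {x : H.left} (h : x ∈ PO hH φ hn) (β : MulAut Γ) : (act hH β).left x ∈ PO hH φ hn := by
  obtain ⟨α, hα⟩ := (mem_PO hH φ hn _).1 h
  refine (mem_PO hH φ hn _).2 ⟨α * β⁻¹, ?_⟩
  have h1 : act hH β ≫ act hH (α * β⁻¹) = act hH α := by
    rw [← act_mul, inv_mul_cancel_right]
  rw [← Scheme.Hom.comp_apply, ← Over.comp_left, h1]
  exact hα

/-- The action on `P`. -/
noncomputable def actP (β : MulAut Γ) : P hH φ hn ⟶ P hH φ hn :=
  (exists_lift_P hH φ hn (jP hH φ hn ≫ act hH β) (fun t => by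
    rw [Over.comp_left, Scheme.Hom.comp_apply]
    exact act_mem hH φ hn ((mem_range_jP hH φ hn _).1 ⟨_, rfl⟩) β)).choose

@[reassoc (attr := simp)] lemma actP_jP (β : MulAut Γ) : actP hH φ hn β ≫ jP hH φ hn = jP hH φ hn ≫ act hH β :=
  (exists_lift_P hH φ hn (jP hH φ hn ≫ act hH β) (fun t => by
    rw [Over.comp_left, Scheme.Hom.comp_apply]
    exact act_mem hH φ hn ((mem_range_jP hH φ hn _).1 ⟨_, rfl⟩) β)).choose_spec

lemma actP_one : actP hH φ hn 1 = 𝟙 _ := by
  rw [← cancel_mono (jP hH φ hn), actP_jP, act_one, Category.comp_id, Category.id_comp]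

lemma actP_mul (α β : MulAut Γ) : actP hH φ hn (α * β) = actP hH φ hn β ≫ actP hH φ hn α := by
  rw [← cancel_mono (jP hH φ hn), actP_jP, act_mul, Category.assoc, actP_jP, actP_jP_assoc]

/-- the action of `MulAut Γ` on `P` -/
noncomputable def actPH : MulAut Γ →* Aut (P hH φ hn) where
  toFun α := ⟨actP hH φ hn α, actP hH φ hn α⁻¹, by rw [← actP_mul, inv_mul_cancel, actP_one],
    by rw [← actP_mul, mul_inv_cancel, actP_one]⟩
  map_one' := Iso.ext (actP_one hH φ hn)
  map_mul' α β := Iso.ext (actP_mul hH φ hn α β)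

@[simp] lemma actPH_hom (α : MulAut Γ) : (actPH hH φ hn α).hom = actP hH φ hn α := rfl

end orbit

end Groth.Agent.Sga3.H796.Orbit
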