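import Groth.Agent.Sga3.H796.LocalData
import Groth.Agent.Sga3.H813.PFib
import Groth.Agent.Sga3.H828.MTMain
import Groth.Agent.Sga3.H828.MTHypSep

/-!
# The scheme of maximal tori of a smooth group with connected fibres

`exists_representsMaxTori`: `G` smooth, separated, quasi-compact over `S` with connected geometric fibres and maximal
tori étale-locally: the functor of maximal tori is represented by a smooth `S`-scheme with affine fibres.
-/

set_option autoImplicit false
universe u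

open CategoryTheory MonoidalCategory CartesianMonoidalCategory MonObj GrpObj AlgebraicGeometry Limits Opposite

namespace Groth.Agent.Sga3.H796.MaxToriRep

open Groth.Agent.Sga3B Groth.Agent.Sga3B.MT Groth.Agent.Sga3.H797.Rigid Groth.Agent.Sga3.H797.HomFin
  Groth.Agent.Sga3.H828.MTFun Groth.Agent.Sga3.H828.MTMain Groth.Agent.Sga3.H796.LocalData
  Groth.Agent.Sga3.H816.AffFibStage

section basic

variable {S S' : Scheme.{u}}

/-- Connectedness of the geometric fibres is stable under base change. -/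
lemma hconn_bc (q : S' ⟶ S) {G : Over S} [GrpObj G]
    (hconn : ∀ (K : Type u) [Field K] [IsAlgClosed K] (t : Spec (CommRingCat.of K) ⟶ S),
      ConnectedSpace (Red.bc t G).left) (K : Type u) [Field K] [IsAlgClosed K] (t : Spec (CommRingCat.of K) ⟶ S') :
    ConnectedSpace (Red.bc t (Red.bc q G)).left :=
  RedIso.connectedSpace_of_iso (RedIso.und (BcIso.bcCompIso t q G)).hom.left (hconn K (t ≫ q))

/-- The fibres are connected. -/
lemma connectedSpace_fibre {G : Over S}
    (hconn : ∀ (K : Type u) [Field K] [IsAlgClosed K] (t : Spec (CommRingCat.of K) ⟶ S),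
      ConnectedSpace (Red.bc t G).left) {k : Type u} [Field k] (f : Spec (CommRingCat.of k) ⟶ S) :
    ConnectedSpace (Red.bc f G).left := by
  let a : Spec (CommRingCat.of (AlgebraicClosure k)) ⟶ Spec (CommRingCat.of k) :=
    Spec.map (CommRingCat.ofHom (algebraMap k (AlgebraicClosure k)))
  have h1 := hconn (AlgebraicClosure k) (a ≫ f)
  have ha : Surjective a := ⟨PrimeSpectrum.comap_surjective_of_faithfullyFlat⟩
  let b : (Red.bc (a ≫ f) G).left ⟶ (Red.bc f G).left :=
    pullback.lift (pullback.fst G.hom (a ≫ f)) (pullback.snd G.hom (a ≫ f) ≫ a) (by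
      rw [Category.assoc, pullback.condition])
  have hb : IsPullback b (pullback.snd G.hom (a ≫ f)) (pullback.snd G.hom f) a := by
    refine IsPullback.of_right ?_ (pullback.lift_snd _ _ _) (IsPullback.of_hasPullback G.hom f)
    have h2 : b ≫ pullback.fst G.hom f = pullback.fst G.hom (a ≫ f) := pullback.lift_fst _ _ _
    rw [h2]
    exact IsPullback.of_hasPullback G.hom (a ≫ f)
  have hs : Surjective b := MorphismProperty.of_isPullback hb.flip ha
  exact hs.1.connectedSpace b.continuous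

/-- Invertibility of integers descends along surjective morphisms. -/
lemma inv_of_surjective (y : S' ⟶ S) [Surjective y] {n : ℕ} (h : Inv n S') : Inv n S := by
  have h1 : y ⁻¹ᵁ (S.basicOpen (n : Γ(S, ⊤))) = ⊤ := by
    rw [Scheme.preimage_basicOpen_top, map_natCast]
    exact S'.basicOpen_of_isUnit h
  have h2 : S.basicOpen (n : Γ(S, ⊤)) = ⊤ := by
    rw [eq_top_iff]
    intro s _
    obtain ⟨s', rfl⟩ := y.surjective s
    have : s' ∈ y ⁻¹ᵁ (S.basicOpen (n : Γ(S, ⊤))) := by rw [h1]; trivial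
    exact this
  exact GLn.isUnit_of_basicOpen_eq _ h2

end basic

lemma HasChart.up {S V Y' : Scheme.{u}} {G : Over S} [GrpObj G] (v : V ⟶ S) (y : Y' ⟶ V) {Γ : Type u} [Group Γ]
    {n : ℕ} (h : HasChart G (y ≫ v) Γ n) : HasChart (Red.bc v G) y Γ n := by
  obtain ⟨T, _, t, M, _, ht, hT, hr, ψ, h1, h2⟩ := h
  have h3 : IsMonHom (Iso.refl T).hom := inferInstanceAs (IsMonHom (𝟙 T))
  refine ⟨T, inferInstance, t ≫ (RedIso.und (BcIso.bcCompIso y v G)).hom, M, inferInstance, ?_, hT, ?_, ψ, h1, h2⟩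
  · exact AlgBc.isMaximalTorus_of_arrow (Iso.refl _) (BcIso.bcCompIso y v G) (Category.id_comp _).symm ht
  · exact isRigid_of_iso (Iso.refl T) (RedIso.und (BcIso.bcCompIso y v G)) (Category.id_comp _) hr

/-- Representability in the presence of a chart. -/
theorem exists_rep_chart {S : Scheme.{u}} {G : Over S} [GrpObj G] (hG : Hyp G) [Smooth G.hom] [IsSeparated G.hom]
    [QuasiCompact G.hom]
    (hconn : ∀ (K : Type u) [Field K] [IsAlgClosed K] (t : Spec (CommRingCat.of K) ⟶ S),
      ConnectedSpace (Red.bc t G).left) {Y' : Scheme.{u}} (y : Y' ⟶ S) [Etale y] [Surjective y] {Γ : Type u} [Group Γ]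
    [Finite Γ] {n : ℕ} (hΓ : ∀ γ : Γ, γ ^ n = 1) (hn : Inv (Nat.card Γ) Y') (hc : HasChart G y Γ n) :
    ∃ A : Over S, Nonempty ((mtF G hG).RepresentableBy A) ∧ Smooth A.hom ∧ Fib A.hom := by
  obtain ⟨T, _, t, M, _, ht, hT, hr, ψ, h1, h2⟩ := hc
  have hn' : Inv (Nat.card Γ) S := inv_of_surjective y hn
  have hy : Etale (Over.mk y).hom := inferInstanceAs (Etale y)
  have hy' : Surjective (Over.mk y).hom := inferInstanceAs (Surjective y)
  obtain ⟨H, υ, hH, hH', φ, A, p, hA, hp1, hp2, hp3, hA'⟩ := LocalRep.exists_rep_local hG hconn (Y := Over.mk y) t ht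
    hT hr ψ h1 h2 hΓ hn'
  refine ⟨A, hA, hA', fun s => ?_⟩
  have := connectedSpace_fibre hconn (S.fromSpecResidueField s)
  exact H813.PFib.isAffine_fibre_M hH hn' φ (S.fromSpecResidueField s) p

/-- Local representability. -/
theorem exists_local {S : Scheme.{u}} {G : Over S} [GrpObj G] (hG : Hyp G) [Smooth G.hom] [IsSeparated G.hom]
    [QuasiCompact G.hom]
    (hconn : ∀ (K : Type u) [Field K] [IsAlgClosed K] (t : Spec (CommRingCat.of K) ⟶ S),
      ConnectedSpace (Red.bc t G).left) (h : SGA3x.HasMaxTorusEtaleLocally G) (s : S) :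
    ∃ V : S.Opens, s ∈ V ∧ ∃ A : Over (V : Scheme.{u}),
      Nonempty ((mtF (Red.bc V.ι G) (Hyp.pull V.ι hG)).RepresentableBy A) ∧ Smooth A.hom ∧ Fib A.hom := by
  obtain ⟨B, _, y, Γ, _, _, n, hy, hs, hc, hΓ, hn⟩ := exists_chart hG h s
  let V : S.Opens := ⟨Set.range y, y.isOpenMap.isOpen_range⟩
  let y' : Spec (CommRingCat.of B) ⟶ V := IsOpenImmersion.lift V.ι y (by
    rw [Scheme.Opens.range_ι]; exact subset_rfl)
  have hy' : y' ≫ V.ι = y := IsOpenImmersion.lift_fac _ _ _
  have h1 : Etale y' := by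
    have : Etale (y' ≫ V.ι) := by rw [hy']; exact hy
    exact Etale.of_comp y' V.ι
  have h2 : Surjective y' := ⟨fun v => by
    obtain ⟨b, hb⟩ : V.ι v ∈ Set.range y := v.2
    refine ⟨b, V.ι.isOpenEmbedding.injective ?_⟩
    rw [← Scheme.Hom.comp_apply, hy']
    exact hb⟩
  rw [← hy'] at hc
  have h3 : Smooth (Red.bc V.ι G).hom := inferInstanceAs (Smooth (pullback.snd G.hom V.ι))
  have h4 : IsSeparated (Red.bc V.ι G).hom := inferInstanceAs (IsSeparated (pullback.snd G.hom V.ι))
  have h5 : QuasiCompact (Red.bc V.ι G).hom := inferInstanceAs (QuasiCompact (pullback.snd G.hom V.ι))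
  have hn' : Inv (Nat.card Γ) (Spec (CommRingCat.of B)) := by
    have h6 := hn.map (Scheme.ΓSpecIso (CommRingCat.of B)).inv.hom
    rwa [map_natCast] at h6
  exact ⟨V, hs, exists_rep_chart (Hyp.pull V.ι hG) (hconn_bc V.ι hconn) y' hΓ hn' (HasChart.up V.ι y' hc)⟩

/-- **Representability of the functor of maximal tori** by a smooth scheme with affine fibres. -/
theorem exists_rep {S : Scheme.{u}} {G : Over S} [GrpObj G] (hG : Hyp G) [Smooth G.hom] [IsSeparated G.hom]
    [QuasiCompact G.hom]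
    (hconn : ∀ (K : Type u) [Field K] [IsAlgClosed K] (t : Spec (CommRingCat.of K) ⟶ S),
      ConnectedSpace (Red.bc t G).left) (h : SGA3x.HasMaxTorusEtaleLocally G) :
    ∃ A : Over S, Nonempty ((mtF G hG).RepresentableBy A) ∧ Smooth A.hom ∧ Fib A.hom := by
  choose V hV A hA hsm hfib using fun s : S => exists_local hG hconn h s
  obtain ⟨M, ⟨e⟩⟩ := AbsRep.exists_rep_of_zariski (TFmt.isEtSheaf_mtF hG) fun s =>
    ⟨V s, hV s, A s, ⟨(hA s).some.ofIso (restrIso (V s).ι hG).symm⟩⟩
  have iso : ∀ s : S, Nonempty (Red.bc (V s).ι M ≅ A s) := fun s =>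
    ⟨((Groth.Agent.Desc.SecDescent.pullRep (V s).ι e).ofIso (restrIso (V s).ι hG)).uniqueUpToIso (hA s).some⟩
  have hcov : TopologicalSpace.IsOpenCover V := by
    rw [TopologicalSpace.IsOpenCover, eq_top_iff]
    intro x _
    exact TopologicalSpace.Opens.mem_iSup.mpr ⟨x, hV x⟩
  refine ⟨M, ⟨e⟩, ?_, ?_⟩
  · rw [IsZariskiLocalAtTarget.iff_of_openCover (P := @Smooth) (S.openCoverOfIsOpenCover V hcov)]
    intro s
    obtain ⟨i⟩ := iso s
    have h1 : pullback.snd M.hom (V s).ι = i.hom.left ≫ (A s).hom := (Over.w i.hom).symm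
    change Smooth (pullback.snd M.hom (V s).ι)
    rw [h1]
    have := hsm s
    infer_instance
  · intro s
    obtain ⟨i⟩ := iso s
    have h1 : Fib (Red.bc (V s).ι M).hom :=
      (hfib s).of_isPullback (f := (A s).hom) (g := i.hom.left) (h := 𝟙 _)
        (IsPullback.of_horiz_isIso ⟨by rw [Over.w i.hom, Category.comp_id]⟩)
    have h2 : Fib (pullback.snd M.hom (V s).ι) := h1
    rw [fib_iff_of_isPullback (IsPullback.of_hasPullback _ _)] at h2
    exact (mem_locus_iff _ _).1 (h2 ⟨s, hV s⟩)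

/-- **The scheme of maximal tori.** -/
theorem exists_representsMaxTori {S : Scheme.{u}} (G : Over S) [GrpObj G] [Smooth G.hom] [IsSeparated G.hom]
    [QuasiCompact G.hom]
    (hconn : ∀ (K : Type u) [Field K] [IsAlgClosed K] (t : Spec (CommRingCat.of K) ⟶ S),
      ConnectedSpace (Red.bc t G).left) (h : SGA3x.HasMaxTorusEtaleLocally G) :
    ∃ (𝒯 : Over S) (Tu : Over 𝒯.left) (_ : GrpObj Tu) (iu : Tu ⟶ Red.bc 𝒯.hom G),
      SGA3x.RepresentsMaxTori G 𝒯 Tu iu ∧ Smooth 𝒯.hom ∧
        ∀ s : S, IsAffine (pullback 𝒯.hom (S.fromSpecResidueField s)) := by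
  have hG : Hyp G := H828.MTHypSep.hyp_of_separated G
  obtain ⟨M, ⟨e⟩, h1, h2⟩ := exists_rep hG hconn h
  obtain ⟨Tu, gTu, iu, h3⟩ := H828.MTRep.exists_representsMaxTori hG e
  exact ⟨M, Tu, gTu, iu, h3, h1, h2⟩

end Groth.Agent.Sga3.H796.MaxToriRep
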