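import Groth.Agent.Sga3.H796.FreeQuot
import Groth.Agent.Sga3B.RepDescent9

/-!
# Étale sheaves which are quotients of a scheme by a free action of a finite group are representable

* `exists_rep` : `F` an étale sheaf on `Over S`, `Q` smooth over `S` with a free action of a finite group `Γ`, `e` a
  `Γ`-invariant section of `F` over `Q` such that `e : Q ⟶ F` is étale locally surjective and two points of `Q` with
  the same image differ étale locally by an element of `Γ`.  Then `F` is represented by the quotient `M` of `Q`;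
* `exists_rep_of_zariski` : representability is Zariski local on the base.
-/

set_option autoImplicit false
universe u

open CategoryTheory CategoryTheory.Limits AlgebraicGeometry Opposite

namespace Groth.Agent.Sga3.H796.AbsRep

open Groth.Agent.Sga3B

variable {S : Scheme.{u}} {F : (Over S)ᵒᵖ ⥤ Type u}

lemma map_comp' (F : (Over S)ᵒᵖ ⥤ Type u) {X Y Z : Over S} (f : X ⟶ Y) (g : Y ⟶ Z) (x : F.obj (op Z)) :
    F.map (f ≫ g).op x = F.map f.op (F.map g.op x) := Functor.map_comp_apply F g.op f.op x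

/-- Equality of sections can be tested étale locally. -/
theorem sec_ext (hF : RepDescent.IsEtSheaf F) {X : Over S} (x y : F.obj (op X))
    (h : ∀ t : X.left, ∃ (X' : Over S) (f : X' ⟶ X), Etale f.left ∧ t ∈ Set.range f.left ∧
      F.map f.op x = F.map f.op y) : x = y := by
  choose X' f hf ht he using h
  obtain ⟨z, hz, hz'⟩ := hF X' f hf (fun t => ⟨t, (ht t).choose, (ht t).choose_spec⟩) (fun t => F.map (f t).op x) (by
    intro i j R a b hab
    rw [← Functor.map_comp_apply, ← Functor.map_comp_apply, ← op_comp, ← op_comp, hab])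
  rw [hz' x fun t => rfl]
  exact (hz' y fun t => (he t).symm).symm

/-- Equality of morphisms over `S` can be tested étale locally. -/
theorem hom_ext {X H : Over S} (a b : X ⟶ H)
    (h : ∀ t : X.left, ∃ (X' : Over S) (f : X' ⟶ X), Etale f.left ∧ t ∈ Set.range f.left ∧ f ≫ a = f ≫ b) : a = b :=
  sec_ext (RepDescent.isEtSheaf_yoneda H) (X := X) a b h

/-- Composition of étale neighbourhoods. -/
theorem mem_range_comp {X X' X'' : Over S} (f : X' ⟶ X) (g : X'' ⟶ X') {t : X.left} {t' : X'.left}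
    (h : f.left t' = t) (h' : t' ∈ Set.range g.left) : t ∈ Set.range (g ≫ f).left := by
  obtain ⟨z, rfl⟩ := h'
  exact ⟨z, by rw [Over.comp_left, Scheme.Hom.comp_apply, h]⟩

/-- lifting a morphism to an étale surjective cover -/
theorem exists_lift_etale {X Q M : Over S} (p : Q ⟶ M) [Etale p.left] [Surjective p.left] (v : X ⟶ M) :
    ∃ (X' : Over S) (f : X' ⟶ X) (a : X' ⟶ Q), Etale f.left ∧ Surjective f.left ∧ a ≫ p = f ≫ v := by
  refine ⟨Over.mk (pullback.fst v.left p.left ≫ X.hom), Over.homMk (pullback.fst v.left p.left) rfl,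
    Over.homMk (pullback.snd v.left p.left) ?_, inferInstanceAs (Etale (pullback.fst v.left p.left)),
    inferInstanceAs (Surjective (pullback.fst v.left p.left)), ?_⟩
  · change pullback.snd v.left p.left ≫ Q.hom = pullback.fst v.left p.left ≫ X.hom
    rw [← Over.w p, ← Category.assoc, ← pullback.condition, Category.assoc, Over.w v]
  · apply Over.OverMorphism.ext
    exact pullback.condition.symm

/-- **Representability of a quotient sheaf.** -/
theorem rep_of_quot (hF : RepDescent.IsEtSheaf F) {Q M : Over S} {Γ : Type*} (ρ : Γ → (Q ⟶ Q)) (p : Q ⟶ M)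
    [Etale p.left] [Surjective p.left] (hinv : ∀ g, ρ g ≫ p = p)
    (hloc : ∀ (X : Over S) (x y : X ⟶ Q), x ≫ p = y ≫ p → ∀ t : X.left, ∃ (X' : Over S) (j : X' ⟶ X),
      IsOpenImmersion j.left ∧ t ∈ Set.range j.left ∧ ∃ g, j ≫ y = j ≫ x ≫ ρ g)
    (e : F.obj (op Q)) (h1 : ∀ g, F.map (ρ g).op e = e)
    (h2 : ∀ (X : Over S) (x : F.obj (op X)) (t : X.left), ∃ (X' : Over S) (f : X' ⟶ X), Etale f.left ∧
      t ∈ Set.range f.left ∧ ∃ a : X' ⟶ Q, F.map a.op e = F.map f.op x)
    (h3 : ∀ (X : Over S) (a b : X ⟶ Q), F.map a.op e = F.map b.op e → ∀ t : X.left,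
      ∃ (X' : Over S) (f : X' ⟶ X), Etale f.left ∧ t ∈ Set.range f.left ∧ ∃ g, f ≫ b = f ≫ a ≫ ρ g) :
    ∃ r : F.RepresentableBy M, r.homEquiv p = e := by
  obtain ⟨m, hm, -⟩ := hF.existsUnique p e (by
    intro R a b hab
    refine sec_ext hF _ _ fun t => ?_
    obtain ⟨X', j, hj1, hj2, g, hg⟩ := hloc R a b hab t
    refine ⟨X', j, inferInstance, hj2, ?_⟩
    have h4 : F.map ((j ≫ a) ≫ ρ g).op e = F.map (j ≫ a).op e :=
      (map_comp' F _ _ _).trans (congrArg (F.map (j ≫ a).op) (h1 g))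
    rw [← map_comp', ← map_comp', hg, ← Category.assoc]
    exact h4.symm)
  have hinj : ∀ (X : Over S) (v w : X ⟶ M), F.map v.op m = F.map w.op m → v = w := by
    intro X v w hvw
    obtain ⟨X₁, f₁, a, ha1, ha2, ha⟩ := exists_lift_etale p v
    obtain ⟨X₂, f₂, b, hb1, hb2, hb⟩ := exists_lift_etale p (f₁ ≫ w)
    have hab : F.map (f₂ ≫ a).op e = F.map b.op e := by
      rw [← hm, ← Functor.map_comp_apply, ← Functor.map_comp_apply, ← op_comp, ← op_comp, Category.assoc, ha, hb,
        op_comp, Functor.map_comp_apply, op_comp, Functor.map_comp_apply, hvw, op_comp, op_comp,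
        Functor.map_comp_apply, Functor.map_comp_apply]
    have h4 : f₂ ≫ f₁ ≫ v = f₂ ≫ f₁ ≫ w := by
      rw [← ha, ← hb, ← Category.assoc]
      refine hom_ext _ _ fun t => ?_
      obtain ⟨X', f, hf1, hf2, g, hg⟩ := h3 X₂ (f₂ ≫ a) b hab t
      refine ⟨X', f, hf1, hf2, ?_⟩
      have h5 : f ≫ b ≫ p = f ≫ (f₂ ≫ a) ≫ p := by
        rw [← Category.assoc f b, hg, Category.assoc, Category.assoc, hinv]
      exact h5.symm
    refine hom_ext _ _ fun t => ⟨X₂, f₂ ≫ f₁, ?_, ?_, ?_⟩
    · rw [Over.comp_left]; infer_instance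
    · rw [Over.comp_left]; exact (f₂.left ≫ f₁.left).surjective t
    · rw [Category.assoc, Category.assoc, h4]
  have hsurj : ∀ (X : Over S) (x : F.obj (op X)), ∃ v : X ⟶ M, F.map v.op m = x := by
    intro X x
    choose X' f hf1 hf2 a ha using h2 X x
    have key : ∀ t, F.map (a t ≫ p).op m = F.map (f t).op x := fun t => by
      rw [op_comp, Functor.map_comp_apply, hm, ha]
    obtain ⟨v, hv, -⟩ := RepDescent.isEtSheaf_yoneda M X' f hf1
      (fun t => ⟨t, (hf2 t).choose, (hf2 t).choose_spec⟩) (fun t => a t ≫ p) (by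
        intro i j R c d hcd
        change c ≫ a i ≫ p = d ≫ a j ≫ p
        apply hinj
        rw [op_comp, Functor.map_comp_apply, key, op_comp, Functor.map_comp_apply, key, ← Functor.map_comp_apply,
          ← Functor.map_comp_apply, ← op_comp, ← op_comp, hcd])
    refine ⟨v, sec_ext hF _ _ fun t => ⟨X' t, f t, hf1 t, hf2 t, ?_⟩⟩
    rw [← Functor.map_comp_apply, ← op_comp]
    have h5 : f t ≫ v = a t ≫ p := hv t
    rw [h5, key]
  let r : F.RepresentableBy M :=
    { homEquiv := fun {X} => Equiv.ofBijective (fun v => F.map v.op m)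
        ⟨fun v w h => hinj X v w h, fun x => hsurj X x⟩
      homEquiv_comp := fun {X X'} f g => by
        change F.map (f ≫ g).op m = F.map f.op (F.map g.op m)
        rw [op_comp, Functor.map_comp_apply] }
  exact ⟨r, hm⟩

/-- **Representability of a quotient sheaf.** -/
theorem exists_rep (hF : RepDescent.IsEtSheaf F) (Q : Over S) {Γ : Type u} [Group Γ] [Finite Γ]
    [Smooth Q.hom] (ρ : Γ →* Aut Q)
    (hfree : ∀ (K : Type u) [Field K] [IsAlgClosed K] (ξ : Spec (CommRingCat.of K) ⟶ Q.left) (g : Γ),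
      ξ ≫ (ρ g).hom.left = ξ → g = 1)
    (haff : ∀ x : Q.left, ∃ U : Q.left.Opens, IsAffineOpen U ∧ ∀ g : Γ, (ρ g).hom.left x ∈ U)
    (e : F.obj (op Q)) (h1 : ∀ g, F.map (ρ g).hom.op e = e)
    (h2 : ∀ (X : Over S) (x : F.obj (op X)) (t : X.left), ∃ (X' : Over S) (f : X' ⟶ X), Etale f.left ∧
      t ∈ Set.range f.left ∧ ∃ a : X' ⟶ Q, F.map a.op e = F.map f.op x)
    (h3 : ∀ (X : Over S) (a b : X ⟶ Q), F.map a.op e = F.map b.op e → ∀ t : X.left,
      ∃ (X' : Over S) (f : X' ⟶ X), Etale f.left ∧ t ∈ Set.range f.left ∧ ∃ g, f ≫ b = f ≫ a ≫ (ρ g).hom) :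
    ∃ (M : Over S) (p : Q ⟶ M) (r : F.RepresentableBy M), Etale p.left ∧ Surjective p.left ∧ IsFinite p.left ∧
      Smooth M.hom ∧ (∀ g, (ρ g).hom ≫ p = p) ∧ r.homEquiv p = e := by
  obtain ⟨M, p, hp1, hp2, hp3, hM, hinv, hloc⟩ := FreeQuot.exists_freeQuot Q ρ hfree haff
  obtain ⟨r, hr⟩ := rep_of_quot hF (fun g => (ρ g).hom) p hinv hloc e h1 h2 h3
  exact ⟨M, p, r, hp1, hp2, hp3, hM, hinv, hr⟩

/-- the one-chart atlas of a representable presheaf -/
noncomputable def atlasOf {F : (Over S)ᵒᵖ ⥤ Type u} {A : Over S} (r : F.RepresentableBy A) :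
    RepDescent.Atlas F where
  ι := PUnit.{u+1}
  W _ := A
  w _ := r.homEquiv (𝟙 A)
  injective _ R m m' h := by
    dsimp only at h
    rw [← r.homEquiv_comp, ← r.homEquiv_comp, Category.comp_id, Category.comp_id] at h
    exact r.homEquiv.injective h
  opens _ _ _ := ⊤
  exists_iff T y i R g := by
    refine ⟨fun _ => Set.subset_univ _, fun _ => ⟨r.homEquiv.symm (F.map g.op y), ?_⟩⟩
    rw [← r.homEquiv_comp, Category.comp_id, Equiv.apply_symm_apply]
  cover _ _ _ := ⟨PUnit.unit, trivial⟩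

/-- Representability is Zariski local on the base. -/
theorem exists_rep_of_zariski (hF : RepDescent.IsEtSheaf F)
    (h : ∀ s : S, ∃ (V : S.Opens), s ∈ V ∧ ∃ A : Over (V : Scheme.{u}),
      Nonempty (((Over.map V.ι).op ⋙ F).RepresentableBy A)) :
    ∃ A : Over S, Nonempty (F.RepresentableBy A) := by
  choose V hV A r using h
  let a := RepDescent.Atlas.glue (F := F) V (fun s => ⟨s, hV s⟩) fun s => atlasOf (r s).some
  exact RepDescent.exists_representableBy_of_atlas a hF

end Groth.Agent.Sga3.H796.AbsRep
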