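import Groth.Agent.Sga3.H796.AbsRep
import Groth.Agent.Sga3.H797.InfChart

/-!
# Functors of subgroups in terms of points, and frames

`TF G`: an étale sheaf `F` on `Over S` whose sections over `X` are commutative subgroups of `G_X`, given by their
points (`In x b σ`: the point `σ : Z ⟶ G` over `b : Z ⟶ X` lies in `x`), any two sections being étale locally
conjugate.  The example is the functor of maximal tori.

* `IsFrame 𝒯 n x ψ`: the homomorphism `ψ : Γ → G(X)` identifies `Γ` with the `n`-torsion of `x`;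
* `rig`: two sections with a common frame are equal, if `n` is good for one section `y₀` over an étale cover of `S`;
* `exists_aut`: two frames of the same section differ étale locally by an automorphism of `Γ`.
-/

set_option autoImplicit false
universe u

open CategoryTheory MonoidalCategory CartesianMonoidalCategory MonObj GrpObj AlgebraicGeometry Limits Opposite

namespace Groth.Agent.Sga3.H796.Frame

open Groth.Agent.Sga3B Groth.Agent.Sga3.H796.AbsRep Groth.Agent.Sga3.H797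

variable {S : Scheme.{u}}

/-- `P` holds on an étale neighbourhood of `t`. -/
def Loc {X : Over S} (t : X.left) (P : ∀ X' : Over S, (X' ⟶ X) → Prop) : Prop :=
  ∃ (X' : Over S) (f : X' ⟶ X), Etale f.left ∧ t ∈ Set.range f.left ∧ P X' f

lemma Loc.mono {X : Over S} {t : X.left} {P Q : ∀ X' : Over S, (X' ⟶ X) → Prop} (h : Loc t P)
    (H : ∀ X' f, P X' f → Q X' f) : Loc t Q := by
  obtain ⟨X', f, h1, h2, h3⟩ := h
  exact ⟨X', f, h1, h2, H _ _ h3⟩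

lemma Loc.and {X : Over S} {t : X.left} {P Q : ∀ X' : Over S, (X' ⟶ X) → Prop} (h : Loc t P) (h' : Loc t Q)
    (HP : ∀ (X' X'' : Over S) (g : X'' ⟶ X') (f : X' ⟶ X), P X' f → P X'' (g ≫ f))
    (HQ : ∀ (X' X'' : Over S) (g : X'' ⟶ X') (f : X' ⟶ X), Q X' f → Q X'' (g ≫ f)) :
    Loc t (fun X' f => P X' f ∧ Q X' f) := by
  obtain ⟨X₁, f₁, h1, ⟨t₁, ht₁⟩, h3⟩ := h
  obtain ⟨X₂, f₂, h1', ⟨t₂, ht₂⟩, h3'⟩ := h'
  obtain ⟨z, hz1, hz2⟩ := Scheme.Pullback.exists_preimage_pullback (f := f₁.left) (g := f₂.left) t₁ t₂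
    (ht₁.trans ht₂.symm)
  let X' : Over S := Over.mk (pullback.fst f₁.left f₂.left ≫ X₁.hom)
  let a : X' ⟶ X₁ := Over.homMk (pullback.fst f₁.left f₂.left) rfl
  let b : X' ⟶ X₂ := Over.homMk (pullback.snd f₁.left f₂.left) (by
    change pullback.snd f₁.left f₂.left ≫ X₂.hom = pullback.fst f₁.left f₂.left ≫ X₁.hom
    rw [← Over.w f₁, ← Over.w f₂, ← Category.assoc, ← Category.assoc, pullback.condition])
  have hab : a ≫ f₁ = b ≫ f₂ := Over.OverMorphism.ext pullback.condition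
  refine ⟨X', a ≫ f₁, ?_, ⟨z, ?_⟩, HP _ _ a f₁ h3, hab ▸ HQ _ _ b f₂ h3'⟩
  · change Etale (pullback.fst f₁.left f₂.left ≫ f₁.left)
    infer_instance
  · change (pullback.fst f₁.left f₂.left ≫ f₁.left) z = t
    rw [Scheme.Hom.comp_apply, hz1, ht₁]

lemma Loc.forall_finite {X : Over S} {t : X.left} {J : Type*} [Finite J] {P : J → ∀ X' : Over S, (X' ⟶ X) → Prop}
    (h : ∀ i, Loc t (P i))
    (HP : ∀ i (X' X'' : Over S) (g : X'' ⟶ X') (f : X' ⟶ X), P i X' f → P i X'' (g ≫ f)) :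
    Loc t (fun X' f => ∀ i, P i X' f) := by
  classical
  have := Fintype.ofFinite J
  have key : ∀ s : Finset J, Loc t (fun X' f => ∀ i ∈ s, P i X' f) := by
    intro s
    induction s using Finset.induction_on with
    | empty =>
      refine ⟨X, 𝟙 X, ?_, ⟨t, ?_⟩, by simp⟩
      · rw [Over.id_left]; infer_instance
      · rw [Over.id_left]; rfl
    | insert a s ha ih =>
      refine ((h a).and ih (HP a) fun X' X'' g f H i hi => HP i _ _ g f (H i hi)).mono ?_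
      rintro X' f ⟨h1, h2⟩ i hi
      rcases Finset.mem_insert.mp hi with rfl | hi
      · exact h1
      · exact h2 i hi
  exact (key Finset.univ).mono fun X' f H i => H i (Finset.mem_univ i)

/-- localising twice -/
lemma Loc.trans {X : Over S} {t : X.left} {P : ∀ X' : Over S, (X' ⟶ X) → Prop}
    {X' : Over S} (f : X' ⟶ X) [Etale f.left] {t' : X'.left} (ht : f.left t' = t)
    (h : Loc t' (fun X'' g => P X'' (g ≫ f))) : Loc t P := by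
  obtain ⟨X'', g, h1, h2, h3⟩ := h
  refine ⟨X'', g ≫ f, ?_, mem_range_comp f g ht h2, h3⟩
  rw [Over.comp_left]
  infer_instance

/-- A functor of commutative subgroups of the base changes of `G`, in terms of points. -/
structure TF (G : Over S) [GrpObj G] where
  /-- the functor -/
  F : (Over S)ᵒᵖ ⥤ Type u
  sheaf : RepDescent.IsEtSheaf F
  /-- the point `(b, σ)` lies in `x` -/
  In : ∀ {X : Over S} (_ : F.obj (op X)) {Z : Over S} (_ : Z ⟶ X) (_ : Z ⟶ G), Prop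
  in_map : ∀ {X X' : Over S} (c : X' ⟶ X) (x : F.obj (op X)) {Z : Over S} (b : Z ⟶ X') (σ : Z ⟶ G),
    In (F.map c.op x) b σ ↔ In x (b ≫ c) σ
  ext : ∀ {X : Over S} (x y : F.obj (op X)), (∀ (Z : Over S) (b : Z ⟶ X) (σ : Z ⟶ G), In x b σ ↔ In y b σ) → x = y
  in_comp : ∀ {X : Over S} {x : F.obj (op X)} {Z Z' : Over S} (c : Z' ⟶ Z) {b : Z ⟶ X} {σ : Z ⟶ G},
    In x b σ → In x (c ≫ b) (c ≫ σ)
  in_of_loc : ∀ {X : Over S} (x : F.obj (op X)) {Z : Over S} (b : Z ⟶ X) (σ : Z ⟶ G),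
    (∀ t : Z.left, Loc t (fun _ f => In x (f ≫ b) (f ≫ σ))) → In x b σ
  comm : ∀ {X : Over S} {x : F.obj (op X)} {Z : Over S} {b : Z ⟶ X} {σ τ : Z ⟶ G}, In x b σ → In x b τ →
    σ * τ = τ * σ
  conj : ∀ {X : Over S} (x : F.obj (op X)) (g : X ⟶ G), ∃ y : F.obj (op X), ∀ (Z : Over S) (b : Z ⟶ X)
    (σ : Z ⟶ G), In y b σ ↔ In x b ((b ≫ g)⁻¹ * σ * (b ≫ g))
  etconj : ∀ {X : Over S} (x y : F.obj (op X)) (t : X.left), Loc t (fun X' f => ∃ g : X' ⟶ G,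
    ∀ (Z : Over S) (b : Z ⟶ X') (σ : Z ⟶ G), In y (b ≫ f) σ ↔ In x (b ≫ f) ((b ≫ g)⁻¹ * σ * (b ≫ g)))

variable {G : Over S} [GrpObj G] (𝒯 : TF G)

lemma conj_pow_eq_one {A : Type*} [Group A] (g σ : A) {n : ℕ} (h : σ ^ n = 1) : (g * σ * g⁻¹) ^ n = 1 := by
  rw [conj_pow, h, _root_.mul_one, _root_.mul_inv_cancel]

lemma conj_pow_eq_one' {A : Type*} [Group A] (g σ : A) {n : ℕ} (h : σ ^ n = 1) : (g⁻¹ * σ * g) ^ n = 1 := by
  have := conj_pow_eq_one g⁻¹ σ h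
  rwa [_root_.inv_inv] at this

/-- `ψ` identifies `Γ` with the `n`-torsion of `x`. -/
structure IsFrame (n : ℕ) {Γ : Type*} [Group Γ] {X : Over S} (x : 𝒯.F.obj (op X)) (ψ : Γ →* (X ⟶ G)) : Prop where
  mem : ∀ γ, 𝒯.In x (𝟙 X) (ψ γ)
  surj : ∀ {Z : Over S} (b : Z ⟶ X) (σ : Z ⟶ G), 𝒯.In x b σ → σ ^ n = 1 → ∀ t : Z.left,
    Loc t (fun _ f => ∃ γ, f ≫ σ = f ≫ b ≫ ψ γ)
  inj : ∀ {Z : Over S} (b : Z ⟶ X), Nonempty Z.left → ∀ γ δ : Γ, b ≫ ψ γ = b ≫ ψ δ → γ = δ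

/-- `n` is good for the section `y₀`: a section commuting with its `n`-torsion is equal to it. -/
def Good (n : ℕ) {Y : Over S} (y₀ : 𝒯.F.obj (op Y)) : Prop :=
  ∀ {X : Over S} (a : X ⟶ Y) (z : 𝒯.F.obj (op X)),
    (∀ {Z : Over S} (b : Z ⟶ X) (τ σ : Z ⟶ G), 𝒯.In y₀ (b ≫ a) τ → τ ^ n = 1 → 𝒯.In z b σ → σ * τ = τ * σ) →
      z = 𝒯.F.map a.op y₀

variable {𝒯} {n : ℕ} {Γ : Type*} [Group Γ]

lemma in_of_mem {X : Over S} {x : 𝒯.F.obj (op X)} {ψ : Γ →* (X ⟶ G)} (h : IsFrame 𝒯 n x ψ) {Z : Over S} (b : Z ⟶ X)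
    (γ : Γ) : 𝒯.In x b (b ≫ ψ γ) := by
  have := 𝒯.in_comp b (h.mem γ)
  rwa [Category.comp_id] at this

/-- pull back of frames -/
lemma IsFrame.pull {X X' : Over S} {x : 𝒯.F.obj (op X)} {ψ : Γ →* (X ⟶ G)} (h : IsFrame 𝒯 n x ψ) (c : X' ⟶ X) :
    IsFrame 𝒯 n (𝒯.F.map c.op x) ((InfChart.pre G c).comp ψ) where
  mem γ := by
    rw [𝒯.in_map, Category.id_comp]
    exact in_of_mem h c γ
  surj b σ hσ hn t := by
    rw [𝒯.in_map] at hσ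
    refine (h.surj (b ≫ c) σ hσ hn t).mono ?_
    rintro X' f ⟨γ, hγ⟩
    refine ⟨γ, ?_⟩
    rw [hγ, Category.assoc]
    rfl
  inj b hb γ δ hγ := by
    refine h.inj (b ≫ c) hb γ δ ?_
    rw [Category.assoc, Category.assoc]
    exact hγ

/-- change of frame -/
lemma IsFrame.aut {X : Over S} {x : 𝒯.F.obj (op X)} {ψ : Γ →* (X ⟶ G)} (h : IsFrame 𝒯 n x ψ) (α : MulAut Γ) :
    IsFrame 𝒯 n x (ψ.comp α.toMonoidHom) where
  mem γ := h.mem (α γ)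
  surj b σ hσ hn t := by
    refine (h.surj b σ hσ hn t).mono ?_
    rintro X' f ⟨γ, hγ⟩
    refine ⟨α⁻¹ γ, ?_⟩
    rw [hγ]
    change f ≫ b ≫ ψ γ = f ≫ b ≫ ψ (α (α⁻¹ γ))
    rw [MulAut.apply_inv_self]
  inj b hb γ δ hγ := α.injective (h.inj b hb _ _ hγ)

/-- conjugation of frames -/
lemma IsFrame.conj {X : Over S} {x y : 𝒯.F.obj (op X)} {ψ : Γ →* (X ⟶ G)} (h : IsFrame 𝒯 n x ψ) (g : X ⟶ G)
    (hy : ∀ (Z : Over S) (b : Z ⟶ X) (σ : Z ⟶ G), 𝒯.In y b σ ↔ 𝒯.In x b ((b ≫ g)⁻¹ * σ * (b ≫ g))) :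
    IsFrame 𝒯 n y ((MulAut.conj g).toMonoidHom.comp ψ) where
  mem γ := by
    rw [hy, Category.id_comp]
    have e : g⁻¹ * ((MulAut.conj g).toMonoidHom.comp ψ) γ * g = ψ γ := by
      change g⁻¹ * (g * ψ γ * g⁻¹) * g = ψ γ
      group
    rw [e]
    exact h.mem γ
  surj b σ hσ hn t := by
    rw [hy] at hσ
    refine (h.surj b _ hσ (conj_pow_eq_one' _ _ hn) t).mono ?_
    rintro X' f ⟨γ, hγ⟩
    refine ⟨γ, ?_⟩
    change f ≫ σ = f ≫ b ≫ (g * ψ γ * g⁻¹)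
    rw [MonObj.comp_mul, MonObj.comp_mul, GrpObj.comp_inv, MonObj.comp_mul, MonObj.comp_mul, GrpObj.comp_inv, ← hγ,
      MonObj.comp_mul, MonObj.comp_mul, GrpObj.comp_inv]
    group
  inj b hb γ δ hγ := by
    refine h.inj b hb γ δ ?_
    have h1 : (b ≫ g) * (b ≫ ψ γ) * (b ≫ g)⁻¹ = (b ≫ g) * (b ≫ ψ δ) * (b ≫ g)⁻¹ := by
      have h2 : b ≫ (g * ψ γ * g⁻¹) = b ≫ (g * ψ δ * g⁻¹) := hγ
      rwa [MonObj.comp_mul, MonObj.comp_mul, GrpObj.comp_inv, MonObj.comp_mul, MonObj.comp_mul,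
        GrpObj.comp_inv] at h2
    exact mul_left_cancel (mul_right_cancel h1)

/-- being a frame is étale local -/
lemma isFrame_of_loc {X : Over S} {x : 𝒯.F.obj (op X)} {ψ : Γ →* (X ⟶ G)}
    (h : ∀ t : X.left, Loc t (fun _ f => IsFrame 𝒯 n (𝒯.F.map f.op x) ((InfChart.pre G f).comp ψ))) :
    IsFrame 𝒯 n x ψ := by
  have key : ∀ {Z : Over S} (b : Z ⟶ X) (t : Z.left), ∃ (Z' X' : Over S) (f : Z' ⟶ Z) (b' : Z' ⟶ X') (c : X' ⟶ X)
      (t' : Z'.left), Etale f.left ∧ f.left t' = t ∧ f ≫ b = b' ≫ c ∧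
        IsFrame 𝒯 n (𝒯.F.map c.op x) ((InfChart.pre G c).comp ψ) := by
    intro Z b t
    obtain ⟨X', c, h1, ⟨t₁, ht₁⟩, h3⟩ := h (b.left t)
    obtain ⟨z, hz1, hz2⟩ := Scheme.Pullback.exists_preimage_pullback (f := b.left) (g := c.left) t t₁ ht₁.symm
    refine ⟨Over.mk (pullback.fst b.left c.left ≫ Z.hom), X', Over.homMk (pullback.fst b.left c.left) rfl,
      Over.homMk (pullback.snd b.left c.left) ?_, c, z, inferInstanceAs (Etale (pullback.fst b.left c.left)), hz1,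
      ?_, h3⟩
    · change pullback.snd b.left c.left ≫ X'.hom = pullback.fst b.left c.left ≫ Z.hom
      rw [← Over.w c, ← Category.assoc, ← pullback.condition, Category.assoc, Over.w b]
    · exact Over.OverMorphism.ext pullback.condition
  refine ⟨fun γ => ?_, fun b σ hσ hn t => ?_, fun {Z} b hb γ δ hγ => ?_⟩
  · refine 𝒯.in_of_loc _ _ _ fun t => (h t).mono fun X' f hf => ?_
    have h1 := hf.mem γ
    rw [𝒯.in_map, Category.id_comp] at h1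
    rw [Category.comp_id]
    exact h1
  · obtain ⟨Z', X', f, b', c, t', hf, ht', hfb, hc⟩ := key b t
    have h1 : 𝒯.In (𝒯.F.map c.op x) b' (f ≫ σ) := by
      rw [𝒯.in_map, ← hfb]
      exact 𝒯.in_comp f hσ
    refine Loc.trans f ht' ((hc.surj b' (f ≫ σ) h1 ?_ t').mono ?_)
    · have h2 : (f ≫ σ) ^ n = f ≫ (σ ^ n) := (map_pow (InfChart.pre G f) σ n).symm
      rw [h2, hn]
      exact map_one (InfChart.pre G f)
    · rintro X'' g ⟨γ, hγ⟩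
      refine ⟨γ, ?_⟩
      have h3 : g ≫ f ≫ σ = g ≫ b' ≫ c ≫ ψ γ := hγ
      rw [Category.assoc, h3, ← Category.assoc b', ← hfb, Category.assoc, Category.assoc]
  · obtain ⟨t⟩ := hb
    obtain ⟨Z', X', f, b', c, t', hf, ht', hfb, hc⟩ := key b t
    refine hc.inj b' ⟨t'⟩ γ δ ?_
    change b' ≫ c ≫ ψ γ = b' ≫ c ≫ ψ δ
    rw [← Category.assoc, ← Category.assoc, ← hfb, Category.assoc, Category.assoc, hγ]

/-- a point of an étale cover of `S`, étale locally -/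
lemma loc_cover (Y : Over S) [Etale Y.hom] [Surjective Y.hom] {X : Over S} (t : X.left) :
    Loc t (fun X' _ => Nonempty (X' ⟶ Y)) := by
  obtain ⟨y, hy⟩ := Y.hom.surjective (X.hom t)
  obtain ⟨z, hz1, hz2⟩ := Scheme.Pullback.exists_preimage_pullback (f := X.hom) (g := Y.hom) t y hy.symm
  refine ⟨Over.mk (pullback.fst X.hom Y.hom ≫ X.hom), Over.homMk (pullback.fst X.hom Y.hom) rfl,
    inferInstanceAs (Etale (pullback.fst X.hom Y.hom)), ⟨z, hz1⟩, ⟨Over.homMk (pullback.snd X.hom Y.hom) ?_⟩⟩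
  exact pullback.condition.symm

/-- étale locally, every section is a conjugate of `y₀`. -/
lemma loc_conj {Y : Over S} [Etale Y.hom] [Surjective Y.hom] (y₀ : 𝒯.F.obj (op Y)) {X : Over S}
    (x : 𝒯.F.obj (op X)) (t : X.left) : Loc t (fun X' f => ∃ (a : X' ⟶ Y) (g : X' ⟶ G),
      ∀ (Z : Over S) (b : Z ⟶ X') (σ : Z ⟶ G),
        𝒯.In x (b ≫ f) σ ↔ 𝒯.In y₀ (b ≫ a) ((b ≫ g)⁻¹ * σ * (b ≫ g))) := by
  obtain ⟨X₁, f₁, h1, ⟨t₁, ht₁⟩, ⟨a₁⟩⟩ := loc_cover Y t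
  refine Loc.trans f₁ ht₁ ((𝒯.etconj (𝒯.F.map a₁.op y₀) (𝒯.F.map f₁.op x) t₁).mono ?_)
  rintro X₂ f₂ ⟨g, hg⟩
  refine ⟨f₂ ≫ a₁, g, fun Z b σ => ?_⟩
  have := hg Z b σ
  rw [𝒯.in_map, 𝒯.in_map] at this
  rw [← Category.assoc, ← Category.assoc]
  exact this

/-- **Rigidity.** Two sections with a common frame are equal. -/
theorem rig {Y : Over S} [Etale Y.hom] [Surjective Y.hom] {y₀ : 𝒯.F.obj (op Y)} (hgood : Good 𝒯 n y₀)
    {X : Over S} {z₁ z₂ : 𝒯.F.obj (op X)} {ψ : Γ →* (X ⟶ G)} (h₁ : IsFrame 𝒯 n z₁ ψ) (h₂ : IsFrame 𝒯 n z₂ ψ) :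
    z₁ = z₂ := by
  refine sec_ext 𝒯.sheaf _ _ fun t => ?_
  obtain ⟨X', f, hf1, hf2, a, g, hg⟩ := loc_conj y₀ z₁ t
  refine ⟨X', f, hf1, hf2, ?_⟩
  obtain ⟨w, hw⟩ := 𝒯.conj (𝒯.F.map f.op z₂) g⁻¹
  have hw' : ∀ (Z : Over S) (b : Z ⟶ X') (σ : Z ⟶ G), 𝒯.In w b σ ↔ 𝒯.In z₂ (b ≫ f) ((b ≫ g) * σ * (b ≫ g)⁻¹) := by
    intro Z b σ
    rw [hw, 𝒯.in_map, GrpObj.comp_inv, _root_.inv_inv]
  have hwy : w = 𝒯.F.map a.op y₀ := by
    refine hgood a w ?_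
    intro Z b τ σ hτ hτn hσ
    rw [hw'] at hσ
    have hτ' : 𝒯.In z₁ (b ≫ f) ((b ≫ g) * τ * (b ≫ g)⁻¹) := by
      rw [hg]
      have e : (b ≫ g)⁻¹ * ((b ≫ g) * τ * (b ≫ g)⁻¹) * (b ≫ g) = τ := by group
      rw [e]
      exact hτ
    refine hom_ext _ _ fun t => ?_
    obtain ⟨Z', c, hc1, hc2, γ, hγ⟩ := h₁.surj (b ≫ f) _ hτ' (conj_pow_eq_one _ _ hτn) t
    refine ⟨Z', c, hc1, hc2, ?_⟩
    have h3 : 𝒯.In z₂ (c ≫ b ≫ f) (c ≫ ((b ≫ g) * τ * (b ≫ g)⁻¹)) := by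
      rw [hγ]
      have := in_of_mem h₂ (c ≫ b ≫ f) γ
      rwa [Category.assoc, Category.assoc] at this
    have h4 := 𝒯.comm (𝒯.in_comp c hσ) h3
    rw [← MonObj.comp_mul, ← MonObj.comp_mul] at h4
    have e1 : σ * τ = (b ≫ g)⁻¹ * (((b ≫ g) * σ * (b ≫ g)⁻¹) * ((b ≫ g) * τ * (b ≫ g)⁻¹)) * (b ≫ g) := by group
    have e2 : τ * σ = (b ≫ g)⁻¹ * (((b ≫ g) * τ * (b ≫ g)⁻¹) * ((b ≫ g) * σ * (b ≫ g)⁻¹)) * (b ≫ g) := by group
    rw [e1, e2, MonObj.comp_mul c (_ * _), MonObj.comp_mul c _ (_ * _), h4, ← MonObj.comp_mul, ← MonObj.comp_mul]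
  refine 𝒯.ext _ _ fun Z b σ => ?_
  rw [𝒯.in_map, hg, 𝒯.in_map]
  have h5 := hw' Z b ((b ≫ g)⁻¹ * σ * (b ≫ g))
  rw [hwy, 𝒯.in_map] at h5
  rw [h5]
  have e3 : (b ≫ g) * ((b ≫ g)⁻¹ * σ * (b ≫ g)) * (b ≫ g)⁻¹ = σ := by group
  rw [e3]

/-- Two frames of the same section differ étale locally by an automorphism. -/
theorem exists_aut [Finite Γ] (hΓ : ∀ γ : Γ, γ ^ n = 1) {X : Over S} {z : 𝒯.F.obj (op X)} {ψ₁ ψ₂ : Γ →* (X ⟶ G)}
    (h₁ : IsFrame 𝒯 n z ψ₁) (h₂ : IsFrame 𝒯 n z ψ₂) (t : X.left) :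
    Loc t (fun _ f => ∃ α : MulAut Γ, ∀ γ, f ≫ ψ₂ γ = f ≫ ψ₁ (α γ)) := by
  have key : Loc t (fun _ f => ∀ γ, ∃ δ, f ≫ ψ₂ γ = f ≫ ψ₁ δ) := by
    refine Loc.forall_finite (fun γ => ?_) ?_
    · refine (h₁.surj (𝟙 X) (ψ₂ γ) (h₂.mem γ) (by rw [← map_pow, hΓ, map_one]) t).mono ?_
      rintro X' f ⟨δ, hδ⟩
      exact ⟨δ, by rw [hδ, Category.id_comp]⟩
    · rintro γ X' X'' g f ⟨δ, hδ⟩
      exact ⟨δ, by rw [Category.assoc, Category.assoc, hδ]⟩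
  obtain ⟨X', f, hf1, ⟨t', ht'⟩, hf3⟩ := key
  refine ⟨X', f, hf1, ⟨t', ht'⟩, ?_⟩
  choose α hα using hf3
  have hne : Nonempty X'.left := ⟨t'⟩
  have hmul : ∀ γ δ, α (γ * δ) = α γ * α δ := fun γ δ => by
    refine h₁.inj f hne _ _ ?_
    rw [← hα, map_mul, map_mul, MonObj.comp_mul, MonObj.comp_mul, hα, hα]
  have hinj : Function.Injective α := fun γ δ h => by
    refine h₂.inj f hne _ _ ?_
    rw [hα, hα, h]
  have hbij : Function.Bijective α := Finite.injective_iff_bijective.mp hinj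
  exact ⟨MulEquiv.ofBijective (MonoidHom.mk' α hmul) hbij, hα⟩

end Groth.Agent.Sga3.H796.Frame
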