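import Groth.Agent.RedSub.H647.FreeQ
import Groth.Agent.S0593

/-!
# Free quotients of schemes by finite groups, with orbits in affine opens

* `exists_freeQuot` : `Q` smooth over `S` with an action of a finite group `Γ` over `S`, free on geometric points,
  every orbit being contained in an affine open: the quotient `p : Q ⟶ M` over `S` exists, is finite étale
  surjective, `M` is smooth over `S`, and `x ≫ p = y ≫ p` iff locally `y = x g`;
* `isAffine_pullback` : if `Q ×_S T` is affine then so is `M ×_S T`.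
-/

set_option autoImplicit false
universe u

open CategoryTheory CategoryTheory.Limits AlgebraicGeometry

namespace Groth.Agent.Sga3.H796.FreeQuot

open Groth.Agent.Sga1 Groth.Agent.Sga3B Groth.Agent.RedSub.H647

section rel

variable {S : Scheme.{u}} (Q : Over S) {Γ : Type u} [Group Γ] [Finite Γ]

/-- **Free quotients** over a base. -/
theorem exists_freeQuot [Smooth Q.hom] (ρ : Γ →* Aut Q)
    (hfree : ∀ (K : Type u) [Field K] [IsAlgClosed K] (ξ : Spec (CommRingCat.of K) ⟶ Q.left) (g : Γ),
      ξ ≫ (ρ g).hom.left = ξ → g = 1)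
    (haff : ∀ x : Q.left, ∃ U : Q.left.Opens, IsAffineOpen U ∧ ∀ g : Γ, (ρ g).hom.left x ∈ U) :
    ∃ (M : Over S) (p : Q ⟶ M), Etale p.left ∧ Surjective p.left ∧ IsFinite p.left ∧
      Smooth M.hom ∧ (∀ g, (ρ g).hom ≫ p = p) ∧
      ∀ (X : Over S) (x y : X ⟶ Q), x ≫ p = y ≫ p → ∀ t : X.left, ∃ (X' : Over S) (j : X' ⟶ X),
        IsOpenImmersion j.left ∧ t ∈ Set.range j.left ∧ ∃ g, j ≫ y = j ≫ x ≫ (ρ g).hom := by
  let ρ₀ : Γ →* Aut Q.left := ((Over.forget S).mapAut Q).comp ρ
  have hρ₀ : ∀ g, (ρ₀ g).hom = (ρ g).hom.left := fun g => rfl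
  have hfree₀ : FreeQuotSch.IsFree ρ₀ := fun K _ _ ξ g h => hfree K ξ g h
  obtain ⟨Y, p, hp⟩ := QuotExists.exists_isQuot ρ₀ haff
  have := FreeQuotSch.etale_of_isFree hp hfree₀
  have := FreeQuotSch.finite_of_isFree hp hfree₀
  have := FreeQuotSch.surjective_of_isQuot hp
  -- the structure morphism
  obtain ⟨s, hs, -⟩ := AdFppf.glueScheme (X := Y) (Y := S) (I := PUnit.{u+1}) (fun _ => Q.left) (fun _ => p)
    (fun _ => inferInstance) (fun _ => inferInstance) (fun y => ⟨⟨⟩, p.surjective y⟩) (fun _ => Q.hom) (by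
      intro _ _ W a b hab
      choose U hU g hg using fun w : W => FreeQ.exists_local hp hfree₀ a b hab w
      let 𝒰 : Scheme.OpenCover.{u} W := Scheme.openCoverOfIsOpenCover W U (by
        rw [TopologicalSpace.IsOpenCover, eq_top_iff]
        intro w _
        exact TopologicalSpace.Opens.mem_iSup.2 ⟨w, hU w⟩)
      refine Scheme.Cover.hom_ext 𝒰 _ _ fun w => ?_
      change (U w).ι ≫ a ≫ Q.hom = (U w).ι ≫ b ≫ Q.hom
      rw [← Category.assoc _ b, hg w, hρ₀, Category.assoc, Category.assoc, Over.w])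
  have hsp : p ≫ s = Q.hom := hs ⟨⟩
  let M : Over S := Over.mk s
  let p' : Q ⟶ M := Over.homMk p hsp
  have hsm : Smooth (p ≫ s) := by rw [hsp]; infer_instance
  refine ⟨M, p', ‹_›, ‹_›, ‹_›, Groth.Agent.S0115.result p s, fun g => ?_, ?_⟩
  · apply Over.OverMorphism.ext
    exact hp.inv g
  · intro X x y hxy t
    obtain ⟨U, hU, g, hg⟩ := FreeQ.exists_local hp hfree₀ x.left y.left (congrArg (fun k => k.left) hxy) t
    refine ⟨Over.mk (U.ι ≫ X.hom), Over.homMk U.ι rfl, inferInstanceAs (IsOpenImmersion U.ι), ⟨⟨t, hU⟩, rfl⟩, g, ?_⟩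
    apply Over.OverMorphism.ext
    exact hg

/-- Affineness of base changes passes to a finite quotient. -/
theorem isAffine_pullback {M : Over S} (p : Q ⟶ M) [Surjective p.left] [IsFinite p.left] {T : Scheme.{u}}
    (t : T ⟶ S) [IsAffine (pullback Q.hom t)] : IsAffine (pullback M.hom t) := by
  let f : pullback Q.hom t ⟶ pullback M.hom t :=
    pullback.lift (pullback.fst _ _ ≫ p.left) (pullback.snd _ _) (by
      rw [Category.assoc, Over.w, pullback.condition])
  have hpb : IsPullback (pullback.fst Q.hom t) f p.left (pullback.fst M.hom t) := by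
    refine IsPullback.of_bot (v₂₁ := pullback.snd M.hom t) (v₂₂ := M.hom) (h₃₁ := t) ?_ ?_
      (IsPullback.of_hasPullback M.hom t)
    · have h1 : f ≫ pullback.snd M.hom t = pullback.snd Q.hom t := pullback.lift_snd _ _ _
      rw [h1, Over.w]
      exact IsPullback.of_hasPullback Q.hom t
    · exact (pullback.lift_fst _ _ _).symm
  have : Surjective f := MorphismProperty.of_isPullback hpb ‹_›
  have : IsFinite f := MorphismProperty.of_isPullback hpb ‹_›
  exact Groth.Agent.S0593.result _ _ f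

end rel

end Groth.Agent.Sga3.H796.FreeQuot
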