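import Groth.Agent.Sga3.H796.TFmt
import Groth.Agent.Sga3.H797.Good

/-!
# Good integers and frames for maximal tori

* `good_of_rigid`: if `t` is a split maximal torus over `Y` and `t` is `n`-rigid, then `n` is good for the section of
  `mtF` given by `t`: a maximal torus commuting with the `n`-torsion of `t` is equal to `t`;
* `isFrame_of_points`: frames of a split torus.
-/

set_option autoImplicit false
universe u

open CategoryTheory MonoidalCategory CartesianMonoidalCategory MonObj GrpObj AlgebraicGeometry Limits Opposite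

namespace Groth.Agent.Sga3.H796.GoodMT

open Groth.Agent.Sga3B Groth.Agent.Sga3B.MT Groth.Agent.Sga3B.BcPts
  Groth.Agent.Sga3.H796.AbsRep Groth.Agent.Sga3.H796.Frame Groth.Agent.Sga3.H797 Groth.Agent.Sga3.H797.Rigid
  Groth.Agent.Sga3.H828.MTFun Groth.Agent.Sga3.H828.MTDesc Groth.Agent.Sga3.H828.MTIdeal
  Groth.Agent.Sga3.H828.MTRep Groth.Agent.Sga3.H796.TFmt

variable {S : Scheme.{u}} {G : Over S} [GrpObj G] (hG : Hyp G) [Smooth G.hom] [IsSeparated G.hom]
  [QuasiCompact G.hom]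

theorem good_of_rigid {Y : Over S} {T : Over Y.left} [GrpObj T] (t : T ⟶ Red.bc Y.hom G)
    (ht : Red.IsMaximalTorus t) {M : Type} [AddCommGroup M] (hsp : Red.IsSplitTorusWith M T) {n : ℕ}
    (hr : IsRigid t n) : Good (tfMT hG) n (elt hG t ht) := by
  intro X a
  refine over_cases (motive := fun X a => ∀ z : (tfMT hG).F.obj (op X),
    (∀ {Z : Over S} (b : Z ⟶ X) (τ σ : Z ⟶ G), (tfMT hG).In (elt hG t ht) (b ≫ a) τ → τ ^ n = 1 →
      (tfMT hG).In z b σ → σ * τ = τ * σ) → z = (tfMT hG).F.map a.op (elt hG t ht)) ?_ X a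
  intro Z q z hz
  obtain ⟨R, _, j, hj, rfl⟩ := exists_elt hG z
  have hmon := ht.1
  have hmo := ht.2.1
  let t' : Red.bc q T ⟶ Red.bc (q ≫ Y.hom) G := bcSub q t
  have ht' : Red.IsMaximalTorus t' := (isMaximalTorus_bcSub_iff q t).2 (hG.bc Y.hom q T t ht)
  have hmon' := ht'.1
  have hj1 := hj.1
  have : LocallyOfFiniteType (Red.bc (q ≫ Y.hom) G).hom :=
    inferInstanceAs (LocallyOfFiniteType (pullback.snd G.hom (q ≫ Y.hom)))
  have : IsSeparated (Red.bc (q ≫ Y.hom) G).hom := inferInstanceAs (IsSeparated (pullback.snd G.hom (q ≫ Y.hom)))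
  have hsp' : Red.IsSplitTorusWith M (Red.bc q T) := TorusAlgClosed.isSplitTorusWith_bc q hsp
  have hr' : IsRigid t' n := H797.Good.Good.isRigid_bcSub q hr
  have hcomm := comm_of_rigid t' j ht'.2.2.1 hsp' hj.2.2.1 hr' (by
    intro X'' r s hs
    let f : Z ⟶ S := q ≫ Y.hom
    let σ : (Over.map f).obj X'' ⟶ G := (bcEquiv f X'' G).symm (r ≫ j)
    let τ : (Over.map f).obj X'' ⟶ G := (bcEquiv f X'' G).symm (s ≫ t')
    have e1 : bcMulEquiv f X'' G σ = r ≫ j := (bcEquiv f X'' G).apply_symm_apply _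
    have e2 : bcMulEquiv f X'' G τ = s ≫ t' := (bcEquiv f X'' G).apply_symm_apply _
    have h1 : MemAt j (MemAt.strHom f X'') σ := (MemAt.iff_of_over j X'' (r ≫ j)).2 ⟨r, rfl⟩
    have h2 : MemAt t' (MemAt.strHom f X'') τ := (MemAt.iff_of_over t' X'' (s ≫ t')).2 ⟨s, rfl⟩
    have h3 : (tfMT hG).In (elt hG t ht) (MemAt.strHom f X'' ≫ om q Y.hom) τ :=
      (in_elt_iff hG t ht _ _).2 ((memAt_bcSub q t _ _).1 h2)
    have h4 : (tfMT hG).In (elt (X := Over.mk f) hG j hj) (MemAt.strHom f X'') σ :=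
      (in_elt_iff (X := Over.mk f) hG j hj _ _).2 h1
    have h5 : τ ^ n = 1 := by
      apply (bcMulEquiv f X'' G).injective
      rw [map_pow, map_one, e2, ← comp_pow', hs, MonObj.one_comp]
    have h6 := hz (MemAt.strHom f X'') τ σ h3 h5 h4
    have h7 := congrArg (bcMulEquiv f X'' G) h6
    rwa [map_mul, map_mul, e1, e2] at h7)
  have : LocallyOfFiniteType (Red.bc (Over.mk (q ≫ Y.hom)).hom G).hom :=
    inferInstanceAs (LocallyOfFiniteType (pullback.snd G.hom (q ≫ Y.hom)))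
  have : IsSeparated (Red.bc (Over.mk (q ≫ Y.hom)).hom G).hom :=
    inferInstanceAs (IsSeparated (pullback.snd G.hom (q ≫ Y.hom)))
  obtain ⟨ψ, hψ⟩ := H798.MaxTorCent.exists_iso_of_comm j hj t' ht' fun X r s => hcomm X r s
  refine (tfMT hG).ext _ _ fun W b σ => ?_
  rw [(tfMT hG).in_map]
  refine (in_elt_iff (X := Over.mk (q ≫ Y.hom)) hG j hj b σ).trans
    (Iff.trans ?_ (in_elt_iff hG t ht (b ≫ om q Y.hom) σ).symm)
  refine Iff.trans ?_ (memAt_bcSub q t b σ)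
  rw [memAt_iff, memAt_iff]
  constructor
  · rintro ⟨x, hx⟩
    have hψ2 : ψ.inv ≫ t' = j := by rw [← hψ, Iso.inv_hom_id_assoc]
    exact ⟨x ≫ ψ.inv, (Category.assoc _ _ _).trans ((congrArg (x ≫ ·) hψ2).trans hx)⟩
  · rintro ⟨x, hx⟩
    exact ⟨x ≫ ψ.hom, (Category.assoc _ _ _).trans ((congrArg (x ≫ ·) hψ).trans hx)⟩

/-- Frames of a torus in terms of its own points. -/
theorem isFrame_of_points {Y : Over S} {T : Over Y.left} [GrpObj T] (t : T ⟶ Red.bc Y.hom G)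
    (ht : Red.IsMaximalTorus t) {n : ℕ} {Γ : Type*} [Group Γ] (ψ : Γ →* (𝟙_ (Over Y.left) ⟶ T))
    (hsurj : ∀ (X : Over Y.left) (s : X ⟶ T), s ^ n = 1 → ∀ x : X.left,
      ∃ (X' : Over Y.left) (f : X' ⟶ X), Etale f.left ∧ x ∈ Set.range f.left ∧ ∃ γ, f ≫ s = toUnit X' ≫ ψ γ)
    (hinj : ∀ (X : Over Y.left), Nonempty X.left → ∀ γ : Γ, toUnit X ≫ ψ γ = 1 → γ = 1) :
    ∃ φ : Γ →* (Y ⟶ G), IsFrame (tfMT hG) n (elt hG t ht) φ := by
  have hmon := ht.1
  have hmo := ht.2.1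
  let e : Y ≅ (Over.map Y.hom).obj (𝟙_ (Over Y.left)) := Over.isoMk (Iso.refl _) (by
    change 𝟙 _ ≫ 𝟙 Y.left ≫ Y.hom = Y.hom
    rw [Category.id_comp, Category.id_comp])
  let φ : Γ →* (Y ⟶ G) :=
    { toFun := fun γ => e.hom ≫ (bcMulEquiv Y.hom (𝟙_ (Over Y.left)) G).symm (ψ γ ≫ t)
      map_one' := by rw [map_one, MonObj.one_comp, map_one, MonObj.comp_one]
      map_mul' := fun a b => by rw [map_mul, MonObj.mul_comp, map_mul, MonObj.comp_mul] }
  -- the point of `G` over `Z` given by `φ γ`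
  have key : ∀ {Z : Over S} (b : Z ⟶ Y) (γ : Γ), bcPt (f := Y.hom) b (b ≫ φ γ) =
      toUnit (Over.mk b.left) ≫ ψ γ ≫ t := by
    intro Z b γ
    have h1 : (overIso (f := Y.hom) b).hom ≫ b ≫ e.hom = (Over.map Y.hom).map (toUnit (Over.mk b.left)) := by
      apply Over.OverMorphism.ext
      have h2 : (toUnit (Over.mk b.left)).left = b.left := by
        have := Over.w (toUnit (Over.mk b.left))
        change (toUnit (Over.mk b.left)).left ≫ 𝟙 _ = b.left at this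
        rwa [Category.comp_id] at this
      change 𝟙 _ ≫ b.left ≫ 𝟙 _ = (toUnit (Over.mk b.left)).left
      rw [h2, Category.comp_id, Category.id_comp]
    change bcEquiv Y.hom (Over.mk b.left) G ((overIso (f := Y.hom) b).hom ≫ b ≫ e.hom ≫
      (bcEquiv Y.hom (𝟙_ (Over Y.left)) G).symm (ψ γ ≫ t)) = _
    rw [← Category.assoc b, ← Category.assoc, h1, comp_bcEquiv, Equiv.apply_symm_apply]
  refine ⟨φ, ⟨fun γ => ?_, fun {Z} b σ hσ hn x => ?_, fun {Z} b hb γ δ hγ => ?_⟩⟩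
  · refine (in_elt_iff hG t ht (𝟙 Y) (φ γ)).2 ((memAt_iff t _ _).2 ⟨toUnit _ ≫ ψ γ, ?_⟩)
    have := key (𝟙 Y) γ
    rw [Category.id_comp] at this
    rw [this, Category.assoc]
  · have h1 := (in_elt_iff hG t ht b σ).1 hσ
    obtain ⟨s, hs⟩ := (memAt_iff t _ _).1 h1
    have h2 : s ^ n = 1 := by
      rw [← cancel_mono t, comp_pow', hs, MonObj.one_comp]
      have h3 : bcPt (f := Y.hom) b (σ ^ n) = (bcPt (f := Y.hom) b σ) ^ n := by
        change bcMulEquiv Y.hom (Over.mk b.left) G ((overIso (f := Y.hom) b).hom ≫ σ ^ n) =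
          (bcMulEquiv Y.hom (Over.mk b.left) G ((overIso (f := Y.hom) b).hom ≫ σ)) ^ n
        rw [← map_pow, ← MonObj.comp_pow]
      rw [← h3, hn, bcPt_one]
    obtain ⟨X', f, hf1, hf2, γ, hγ⟩ := hsurj (Over.mk b.left) s h2 x
    let Z' : Over S := Over.mk (f.left ≫ Z.hom)
    let F : Z' ⟶ Z := Over.homMk f.left
    refine ⟨Z', F, hf1, hf2, γ, ?_⟩
    have hX' : X'.hom = (F ≫ b).left := (Over.w f).symm
    let m : Over.mk (F ≫ b).left ⟶ X' := Over.homMk (𝟙 _) (by rw [hX']; exact Category.id_comp _)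
    have h4 : bcPt (f := Y.hom) (F ≫ b) (F ≫ σ) = bcPt (f := Y.hom) (F ≫ b) ((F ≫ b) ≫ φ γ) := by
      rw [key, bcPt_comp, ← hs, ← Category.assoc]
      have h5 : ovMap (f := Y.hom) F b = m ≫ f := by
        apply Over.OverMorphism.ext
        exact (Category.id_comp _).symm
      rw [h5, Category.assoc m, hγ, ← Category.assoc m, toUnit_unique (m ≫ toUnit X') (toUnit _), Category.assoc]
    have h6 : (bcPt (f := Y.hom) (F ≫ b) (F ≫ σ)).left ≫ pullback.fst G.hom Y.hom =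
        (bcPt (f := Y.hom) (F ≫ b) ((F ≫ b) ≫ φ γ)).left ≫ pullback.fst G.hom Y.hom := by rw [h4]
    rw [bcPt_left_fst, bcPt_left_fst] at h6
    have h7 : F ≫ σ = (F ≫ b) ≫ φ γ := Over.OverMorphism.ext h6
    rw [h7, Category.assoc]
  · have h1 : b ≫ φ (γ * δ⁻¹) = 1 := by
      rw [map_mul, map_inv, MonObj.comp_mul, GrpObj.comp_inv, hγ, mul_inv_cancel]
    have h2 := key b (γ * δ⁻¹)
    rw [h1, bcPt_one, ← Category.assoc] at h2
    have h3 : toUnit (Over.mk b.left) ≫ ψ (γ * δ⁻¹) = 1 := by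
      rw [← cancel_mono t, MonObj.one_comp]
      exact h2.symm
    have h4 := hinj (Over.mk b.left) hb _ h3
    exact mul_inv_eq_one.1 h4

end Groth.Agent.Sga3.H796.GoodMT
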