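import Groth.Agent.Sga3.H796.LocalRep
import Groth.Agent.Sga3.H803.EtTors
import Groth.Agent.Sga3B.TorusEtLoc920
import Groth.Prelude.Def_SGA3x

/-!
# Existence of étale charts for the functor of maximal tori
-/

set_option autoImplicit false
universe u

open CategoryTheory MonoidalCategory CartesianMonoidalCategory MonObj GrpObj AlgebraicGeometry Limits Opposite

namespace Groth.Agent.Sga3.H796.LocalData

open Groth.Agent.Sga3B Groth.Agent.Sga3B.MT Groth.Agent.Sga3.H797.Rigid Groth.Agent.Sga3.H828.MTFun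
  Groth.Agent.Sga3.H828.MTDesc Groth.Agent.Sga3.H518.TorsSplit

/-- A split maximal torus over `Y'`, rigid for `n`, with constant torsion `Γ`. -/
def HasChart {S Y' : Scheme.{u}} (G : Over S) [GrpObj G] (y : Y' ⟶ S) (Γ : Type u) [Group Γ] (n : ℕ) : Prop :=
  ∃ (T : Over Y') (_ : GrpObj T) (t : T ⟶ Red.bc y G) (M : Type) (_ : AddCommGroup M),
    Red.IsMaximalTorus t ∧ Red.IsSplitTorusWith M T ∧ IsRigid t n ∧
    ∃ ψ : Γ →* (𝟙_ (Over Y') ⟶ T),
      (∀ (X : Over Y') (s : X ⟶ T), s ^ n = 1 → ∀ x : X.left,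
        ∃ (X' : Over Y') (f : X' ⟶ X), Etale f.left ∧ x ∈ Set.range f.left ∧ ∃ γ, f ≫ s = toUnit X' ≫ ψ γ) ∧
      (∀ (X : Over Y'), Nonempty X.left → ∀ γ : Γ, toUnit X ≫ ψ γ = 1 → γ = 1)

section

variable {S : Scheme.{u}} {G : Over S} [GrpObj G] (hG : Hyp G)

include hG in
/-- base change of a split maximal torus -/
lemma split_bc {Y' Y'' : Scheme.{u}} (y : Y' ⟶ S) (w : Y'' ⟶ Y') {T : Over Y'} [GrpObj T] (t : T ⟶ Red.bc y G)
    (ht : Red.IsMaximalTorus t) : Red.IsMaximalTorus (bcSub w t) :=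
  (isMaximalTorus_bcSub_iff w t).2 (hG.bc y w T t ht)

include hG in
/-- Étale locally there is a split maximal torus. -/
theorem exists_split (h : SGA3x.HasMaxTorusEtaleLocally G) (s : S) :
    ∃ (B : Type u) (_ : CommRing B) (y : Spec (CommRingCat.of B) ⟶ S) (T : Over (Spec (CommRingCat.of B)))
      (_ : GrpObj T) (t : T ⟶ Red.bc y G) (r : ℕ), Etale y ∧ s ∈ Set.range y ∧ Red.IsMaximalTorus t ∧
        Red.IsSplitTorusWith (Fin r → ℤ) T := by
  obtain ⟨S', f, hf, hf', T, _, i, hi⟩ := h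
  obtain ⟨s', hs'⟩ := hf'.1 s
  obtain ⟨B, _, v, r, hv, ⟨b, hb⟩, hr⟩ := TorusEtLoc920.exists_etale_split T hi.2.2.1 s'
  refine ⟨B, inferInstance, v ≫ f, Red.bc v T, inferInstance, bcSub v i, r, inferInstance, ⟨b, ?_⟩,
    split_bc hG f v i hi, hr⟩
  rw [Scheme.Hom.comp_apply, hb, hs']

include hG in
/-- Étale locally there is a split maximal torus, and `2` or `3` is invertible. -/
theorem exists_split_inv (h : SGA3x.HasMaxTorusEtaleLocally G) (s : S) :
    ∃ (B : Type u) (_ : CommRing B) (y : Spec (CommRingCat.of B) ⟶ S) (T : Over (Spec (CommRingCat.of B)))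
      (_ : GrpObj T) (t : T ⟶ Red.bc y G) (r l : ℕ), Etale y ∧ s ∈ Set.range y ∧ Red.IsMaximalTorus t ∧
        Red.IsSplitTorusWith (Fin r → ℤ) T ∧ 2 ≤ l ∧ IsUnit (l : B) := by
  obtain ⟨B, _, y, T, _, t, r, hy, ⟨b, hb⟩, ht, hr⟩ := exists_split hG h s
  obtain ⟨l, hl, hlb⟩ : ∃ l : ℕ, 2 ≤ l ∧ (l : B) ∉ b.asIdeal := by
    by_cases h2 : ((2 : ℕ) : B) ∈ b.asIdeal
    · refine ⟨3, by norm_num, fun h3 => b.2.one_notMem ?_⟩
      have := b.asIdeal.sub_mem h3 h2
      have h4 : ((3 : ℕ) : B) - ((2 : ℕ) : B) = 1 := by push_cast; ring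
      rwa [h4] at this
    · exact ⟨2, le_rfl, h2⟩
  let B₁ := Localization.Away (l : B)
  let w : Spec (CommRingCat.of B₁) ⟶ Spec (CommRingCat.of B) := Spec.map (CommRingCat.ofHom (algebraMap B B₁))
  have hw : IsOpenImmersion w := IsOpenImmersion.of_isLocalization (l : B)
  have hbw : b ∈ Set.range w := by
    have h1 : Set.range w = (PrimeSpectrum.basicOpen (l : B) : Set (PrimeSpectrum B)) :=
      PrimeSpectrum.localization_away_comap_range B₁ (l : B)
    rw [h1]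
    exact hlb
  obtain ⟨b₁, hb₁⟩ := hbw
  refine ⟨B₁, inferInstance, w ≫ y, Red.bc w T, inferInstance, bcSub w t, r, l, inferInstance, ⟨b₁, ?_⟩,
    split_bc hG y w t ht, TorusAlgClosed.isSplitTorusWith_bc w hr, hl, ?_⟩
  · rw [Scheme.Hom.comp_apply, hb₁, hb]
  · have h1 := IsLocalization.Away.algebraMap_isUnit (S := B₁) (l : B)
    rwa [map_natCast] at h1

end

/-- A split torus over a quasi-compact base is rigid for a power of `l`. -/
theorem exists_rigid {Y' : Scheme.{u}} [CompactSpace Y'] {T G : Over Y'} [GrpObj T] [GrpObj G]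
    [LocallyOfFiniteType G.hom] (t : T ⟶ G) [IsMonHom t] {r : ℕ} (hT : Red.IsSplitTorusWith (Fin r → ℤ) T) {l : ℕ}
    (hl : 2 ≤ l) : ∃ m : ℕ, IsRigid t (l ^ m) := by
  obtain ⟨e⟩ := hT
  have h1 : IsMonHom (RedIso.und e).hom := inferInstance
  have h2 : IsMonHom (RedIso.und e).inv := inferInstance
  have h3 : IsMonHom ((RedIso.und e).inv ≫ t) := inferInstance
  obtain ⟨m, hm⟩ := exists_pow ((RedIso.und e).inv ≫ t) hl
  have h4 : IsMonHom (Iso.refl G).hom := inferInstanceAs (IsMonHom (𝟙 G))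
  refine ⟨m, isRigid_of_iso (RedIso.und e) (Iso.refl G) ?_ (hm m le_rfl)⟩
  change (RedIso.und e).hom ≫ ((RedIso.und e).inv ≫ t) ≫ 𝟙 G = t
  rw [Category.comp_id, Iso.hom_inv_id_assoc]

lemma iso_of_split {Y' : Scheme.{u}} {T : Over Y'} [GrpObj T] {M : Type} [AddCommGroup M]
    (hT : Red.IsSplitTorusWith M T) : ∃ e : T ≅ Red.DS Y' M, IsMonHom e.hom ∧ IsMonHom e.inv := by
  obtain ⟨e⟩ := hT
  exact ⟨RedIso.und e, inferInstance, inferInstance⟩

lemma one_comp'' {Y' : Scheme.{u}} {X T T' : Over Y'} [GrpObj T] [GrpObj T'] (f : T ⟶ T') [IsMonHom f] :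
    (1 : X ⟶ T) ≫ f = 1 := MonObj.one_comp f

/-- Constant torsion in the presence of a primitive root of unity. -/
theorem const_of_root {B : Type u} [CommRing B] {T : Over (Spec (CommRingCat.of B))} [GrpObj T] {r : ℕ}
    (hT : Red.IsSplitTorusWith (Fin r → ℤ) T) {n : ℕ} [NeZero n] (hn : IsUnit (n : B)) (ζ : Bˣ) (hζ : ζ ^ n = 1)
    (hprim : ∀ (K : Type u) [Field K] (φ : B →+* K), IsPrimitiveRoot (φ (ζ : B)) n) :
    ∃ ψ : ULift.{u} (Multiplicative (Fin r → ZMod n)) →* (𝟙_ (Over (Spec (CommRingCat.of B))) ⟶ T),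
      (∀ (X : Over (Spec (CommRingCat.of B))) (s : X ⟶ T), s ^ n = 1 → ∀ x : X.left,
        ∃ (X' : Over (Spec (CommRingCat.of B))) (f : X' ⟶ X), Etale f.left ∧ x ∈ Set.range f.left ∧
          ∃ γ, f ≫ s = toUnit X' ≫ ψ γ) ∧
      (∀ (X : Over (Spec (CommRingCat.of B))), Nonempty X.left → ∀ γ, toUnit X ≫ ψ γ = 1 → γ = 1) := by
  obtain ⟨e, h1, h2⟩ := iso_of_split hT
  let ψ₀ := psi ζ hζ r
  refine ⟨(H803.EtTors.mapSec e.inv ψ₀).comp MulEquiv.ulift.toMonoidHom,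
    fun X s hs x => ?_, fun X hX γ hγ => ?_⟩
  · obtain ⟨V, γ, hx, hV⟩ := exists_open ζ hζ hprim hn X (s ≫ e.hom) 
      ((H797.Rigid.comp_pow' s e.hom n).symm.trans ((congrArg (· ≫ e.hom) hs).trans (one_comp'' e.hom))) x
    refine ⟨Over.mk (V.ι ≫ X.hom), Over.homMk V.ι rfl, inferInstanceAs (Etale V.ι), ?_, ULift.up γ, ?_⟩
    · exact ⟨⟨x, hx⟩, rfl⟩
    · change (Over.homMk V.ι rfl : Over.mk (V.ι ≫ X.hom) ⟶ X) ≫ s = toUnit _ ≫ ψ₀ γ ≫ e.inv
      rw [← Category.assoc, ← hV, Category.assoc, Category.assoc, Iso.hom_inv_id, Category.comp_id]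
  · have h3 : toUnit X ≫ ψ₀ γ.down = 1 := by
      have h4 : toUnit X ≫ ψ₀ γ.down ≫ e.inv = 1 := hγ
      rw [← cancel_mono e.inv, one_comp'', Category.assoc, h4]
    have h5 := eq_one_of_comp_psi ζ hζ hprim X γ.down h3
    exact ULift.down_injective h5

/-- Constant torsion after an étale surjective base change. -/
theorem exists_const {B₁ : Type u} [CommRing B₁] {T : Over (Spec (CommRingCat.of B₁))} [GrpObj T] {r : ℕ}
    (hT : Red.IsSplitTorusWith (Fin r → ℤ) T) {n : ℕ} (hn : 0 < n) (hB : IsUnit (n : B₁)) :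
    ∃ (B : Type u) (_ : CommRing B) (u : Spec (CommRingCat.of B) ⟶ Spec (CommRingCat.of B₁)), Etale u ∧ Surjective u ∧
      ∃ ψ : ULift.{u} (Multiplicative (Fin r → ZMod n)) →* (𝟙_ (Over (Spec (CommRingCat.of B))) ⟶ Red.bc u T),
      (∀ (X : Over (Spec (CommRingCat.of B))) (s : X ⟶ Red.bc u T), s ^ n = 1 → ∀ x : X.left,
        ∃ (X' : Over (Spec (CommRingCat.of B))) (f : X' ⟶ X), Etale f.left ∧ x ∈ Set.range f.left ∧
          ∃ γ, f ≫ s = toUnit X' ≫ ψ γ) ∧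
      (∀ (X : Over (Spec (CommRingCat.of B))), Nonempty X.left → ∀ γ, toUnit X ≫ ψ γ = 1 → γ = 1) := by
  have : NeZero n := ⟨hn.ne'⟩
  have hff := faithfullyFlat n B₁ hn
  have het := H803.EtTors.etale_cyclotomic n B₁ hB
  refine ⟨AdjoinRoot (Polynomial.cyclotomic n B₁), inferInstance,
    Spec.map (CommRingCat.ofHom (algebraMap B₁ (AdjoinRoot (Polynomial.cyclotomic n B₁)))), ?_, ?_,
    const_of_root (TorusAlgClosed.isSplitTorusWith_bc _ hT) ?_ (Units.ofPowEqOne _ n (root_pow n B₁) hn.ne')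
      (Units.pow_ofPowEqOne (root_pow n B₁) hn.ne') fun K _ φ => isPrimitiveRoot n B₁ hB φ⟩
  · rw [HasRingHomProperty.Spec_iff (P := @Etale)]
    exact (RingHom.etale_algebraMap (R := B₁) (S := AdjoinRoot (Polynomial.cyclotomic n B₁))).2 het
  · exact ⟨PrimeSpectrum.comap_surjective_of_faithfullyFlat⟩
  · have := hB.map (algebraMap B₁ (AdjoinRoot (Polynomial.cyclotomic n B₁)))
    rwa [map_natCast] at this

section

variable {S : Scheme.{u}} {G : Over S} [GrpObj G] (hG : Hyp G)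

include hG in
/-- **Existence of charts.** -/
theorem exists_chart [LocallyOfFiniteType G.hom] (h : SGA3x.HasMaxTorusEtaleLocally G) (s : S) :
    ∃ (B : Type u) (_ : CommRing B) (y : Spec (CommRingCat.of B) ⟶ S) (Γ : Type u) (_ : Group Γ) (_ : Finite Γ)
      (n : ℕ), Etale y ∧ s ∈ Set.range y ∧ HasChart G y Γ n ∧ (∀ γ : Γ, γ ^ n = 1) ∧ IsUnit (Nat.card Γ : B) := by
  obtain ⟨B₁, _, y, T, _, t, r, l, hy, ⟨b, hb⟩, ht, hT, hl, hlB⟩ := exists_split_inv hG h s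
  have hmon := ht.1
  have : LocallyOfFiniteType (Red.bc y G).hom := inferInstanceAs (LocallyOfFiniteType (pullback.snd G.hom y))
  obtain ⟨m, hm⟩ := exists_rigid t hT hl
  have hn : 0 < l ^ m := pow_pos (by omega) m
  have hnB : IsUnit ((l ^ m : ℕ) : B₁) := by
    rw [Nat.cast_pow]
    exact hlB.pow m
  obtain ⟨B, _, u, hu, hu', ψ, hψ1, hψ2⟩ := exists_const hT hn hnB
  obtain ⟨b', hb'⟩ := hu'.1 b
  have : NeZero (l ^ m) := ⟨hn.ne'⟩
  refine ⟨B, inferInstance, u ≫ y, ULift.{u} (Multiplicative (Fin r → ZMod (l ^ m))), inferInstance, inferInstance,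
    l ^ m, inferInstance, ⟨b', ?_⟩, ⟨Red.bc u T, inferInstance, bcSub u t, Fin r → ℤ, inferInstance,
      split_bc hG y u t ht, TorusAlgClosed.isSplitTorusWith_bc u hT, H797.Good.Good.isRigid_bcSub u hm, ψ, hψ1, hψ2⟩,
    fun γ => ?_, ?_⟩
  · rw [Scheme.Hom.comp_apply, hb', hb]
  · apply ULift.down_injective
    apply Multiplicative.toAdd.injective
    funext i
    change (l ^ m) • (γ.down.toAdd i) = 0
    rw [nsmul_eq_mul, ZMod.natCast_self, zero_mul]
  · have h1 : Nat.card (ULift.{u} (Multiplicative (Fin r → ZMod (l ^ m)))) = (l ^ m) ^ r := by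
      rw [Nat.card_congr Equiv.ulift, Nat.card_congr Multiplicative.toAdd, Nat.card_fun]
      simp
    rw [h1, Nat.cast_pow]
    have h2 := hnB.map (Spec.preimage u).hom
    rw [map_natCast] at h2
    exact h2.pow r

end

end Groth.Agent.Sga3.H796.LocalData
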