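import Groth.Agent.Sga3.H796.Orbit
import Groth.Agent.Sga3.H813.QAChart

/-!
# Finite sets of points in affine opens; orbits in the scheme of frames

* `exists_affine_of_finite`: in a quasi-affine scheme, a finite subset of an open `W` is contained in an affine open
  contained in `W`;
* `exists_affine_orbit`: the orbits of `MulAut Γ` in the scheme of frames `P` lie in affine opens.
-/

set_option autoImplicit false
universe u

open CategoryTheory MonoidalCategory CartesianMonoidalCategory MonObj GrpObj AlgebraicGeometry Limits Opposite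

namespace Groth.Agent.Sga3.H796.OrbAff

open Groth.Agent.Sga3B Groth.Agent.Sga3.H796.AbsRep Groth.Agent.Sga3.H796.Frame Groth.Agent.Sga3.H797
  Groth.Agent.Sga3.H797.HomFin Groth.Agent.Sga3.H796.Orbit

theorem exists_affine_of_finite (X : Scheme.{u}) [X.IsQuasiAffine] (W : X.Opens) (A : Set X) (hA : A.Finite)
    (hAW : A ⊆ W) : ∃ O : X.Opens, IsAffineOpen O ∧ O ≤ W ∧ A ⊆ O := by
  obtain ⟨f, hf, hAf⟩ := H813.QAChart.exists_basicOpen_of_finite X A hA
  obtain ⟨g, hg1, hg2⟩ := H813.QAChart.exists_basicOpen_of_finite_spec (A := Γ(X, X.basicOpen f))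
    (hf.fromSpec ⁻¹ᵁ W) (hf.fromSpec ⁻¹' A) (hA.preimage hf.fromSpec.isOpenEmbedding.injective.injOn)
    (fun x hx => hAW hx)
  refine ⟨hf.fromSpec ''ᵁ (PrimeSpectrum.basicOpen g), ?_, ?_, ?_⟩
  · exact (IsAffineOpen.Spec_basicOpen g).image_of_isOpenImmersion hf.fromSpec
  · rintro _ ⟨x, hx, rfl⟩
    exact hg2 hx
  · intro a ha
    have h1 : a ∈ Set.range hf.fromSpec := by
      rw [hf.range_fromSpec]
      exact hAf ha
    obtain ⟨x, rfl⟩ := h1
    exact ⟨x, hg1 ha, rfl⟩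

/-- Finite sets of points over one point of the base. -/
theorem exists_affine_of_fibre {S X : Scheme.{u}} (p : X ⟶ S) (V : S.Opens)
    [hqa : (pullback p V.ι).IsQuasiAffine] (W : X.Opens) (A : Set X) (hA : A.Finite)
    (hAW : A ⊆ W) (hAV : ∀ a ∈ A, p a ∈ V) : ∃ O : X.Opens, IsAffineOpen O ∧ O ≤ W ∧ A ⊆ O := by
  let j : pullback p V.ι ⟶ X := pullback.fst p V.ι
  obtain ⟨O, hO1, hO2, hO3⟩ := exists_affine_of_finite (pullback p V.ι) (j ⁻¹ᵁ W) (j ⁻¹' A)
    (hA.preimage j.isOpenEmbedding.injective.injOn) (fun x hx => hAW hx)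
  refine ⟨j ''ᵁ O, ?_, ?_, ?_⟩
  · exact hO1.image_of_isOpenImmersion j
  · rintro _ ⟨x, hx, rfl⟩
    exact hO2 hx
  · intro a ha
    obtain ⟨z, hz, -⟩ := Scheme.Pullback.exists_preimage_pullback (f := p) (g := V.ι) a ⟨p a, hAV a ha⟩ rfl
    refine ⟨z, hO3 ?_, hz⟩
    change j z ∈ A
    rwa [hz]

variable {S : Scheme.{u}} {G : Over S} [GrpObj G] {Γ : Type*} [Group Γ] [Finite Γ] {H : Over S}
  {υ : Γ →* (H ⟶ G)} (hH : IsHomScheme G Γ H υ) {Y : Over S} (φ : Γ →* (Y ⟶ G)) [Smooth G.hom]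
  [LocallyOfFinitePresentation H.hom] (hn : Inv (Nat.card Γ) S) [Etale Y.hom]

/-- The orbits of `MulAut Γ` in the scheme of frames lie in affine opens. -/
theorem exists_affine_orbit
    (hqa : ∀ s : S, ∃ V : S.Opens, s ∈ V ∧ (Red.bc V.ι H).left.IsQuasiAffine) (x : (P hH φ hn).left) :
    ∃ U : (P hH φ hn).left.Opens, IsAffineOpen U ∧ ∀ α : MulAut Γ, (actP hH φ hn α).left x ∈ U := by
  obtain ⟨V, hV, hq⟩ := hqa ((P hH φ hn).hom x)
  have hq' : (pullback H.hom V.ι).IsQuasiAffine := hq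
  let j : (P hH φ hn).left ⟶ H.left := (jP hH φ hn).left
  obtain ⟨O, hO1, hO2, hO3⟩ := exists_affine_of_fibre H.hom V (PO hH φ hn)
    (Set.range fun α : MulAut Γ => j ((actP hH φ hn α).left x)) (Set.finite_range _) (by
      rintro _ ⟨α, rfl⟩
      exact (mem_range_jP hH φ hn _).1 ⟨_, rfl⟩) (by
      rintro _ ⟨α, rfl⟩
      have h1 : (actP hH φ hn α).left ≫ j ≫ H.hom = (P hH φ hn).hom := by
        rw [Over.w (jP hH φ hn), Over.w (actP hH φ hn α)]
      have h2 : H.hom (j ((actP hH φ hn α).left x)) = (P hH φ hn).hom x := by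
        rw [← h1]
        simp only [Scheme.Hom.comp_apply]
      rw [h2]
      exact hV)
  refine ⟨j ⁻¹ᵁ O, hO1.preimage_of_isOpenImmersion j ?_, fun α => hO3 ⟨α, rfl⟩⟩
  intro y hy
  exact (mem_range_jP hH φ hn y).2 (hO2 hy)

end Groth.Agent.Sga3.H796.OrbAff
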