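import Groth.Agent.Sga3.H796.TorQuot
import Groth.Agent.Sga3.H796.OrbAff
import Groth.Agent.Sga3.H796.GoodMT

/-!
# Representability of the functor of maximal tori, in the presence of a rigid split maximal torus over an étale cover
-/

set_option autoImplicit false
universe u

open CategoryTheory MonoidalCategory CartesianMonoidalCategory MonObj GrpObj AlgebraicGeometry Limits Opposite

namespace Groth.Agent.Sga3.H796.LocalRep

open Groth.Agent.Sga3B Groth.Agent.Sga3.H796.AbsRep Groth.Agent.Sga3.H796.Frame Groth.Agent.Sga3.H797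
  Groth.Agent.Sga3.H797.HomFin Groth.Agent.Sga3.H796.Orbit Groth.Agent.Sga3.H797.Rigid
  Groth.Agent.Sga3.H828.MTFun Groth.Agent.Sga3.H796.GoodMT

variable {S : Scheme.{u}} {G : Over S} [GrpObj G] (hG : Hyp G) [Smooth G.hom] [IsSeparated G.hom]
  [QuasiCompact G.hom]

theorem exists_rep_local
    (hconn : ∀ (K : Type u) [Field K] [IsAlgClosed K] (t : Spec (CommRingCat.of K) ⟶ S),
      ConnectedSpace (Red.bc t G).left)
    {Y : Over S} [Etale Y.hom] [Surjective Y.hom] {T : Over Y.left} [GrpObj T] (t : T ⟶ Red.bc Y.hom G)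
    (ht : Red.IsMaximalTorus t) {M : Type} [AddCommGroup M] (hsp : Red.IsSplitTorusWith M T) {n : ℕ}
    (hr : IsRigid t n) {Γ : Type u} [Group Γ] [Finite Γ] (ψ : Γ →* (𝟙_ (Over Y.left) ⟶ T))
    (hsurj : ∀ (X : Over Y.left) (s : X ⟶ T), s ^ n = 1 → ∀ x : X.left,
      ∃ (X' : Over Y.left) (f : X' ⟶ X), Etale f.left ∧ x ∈ Set.range f.left ∧ ∃ γ, f ≫ s = toUnit X' ≫ ψ γ)
    (hinj : ∀ (X : Over Y.left), Nonempty X.left → ∀ γ : Γ, toUnit X ≫ ψ γ = 1 → γ = 1)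
    (hΓ : ∀ γ : Γ, γ ^ n = 1) (hn : Inv (Nat.card Γ) S) :
    ∃ (H : Over S) (υ : Γ →* (H ⟶ G)) (hH : IsHomScheme G Γ H υ) (_ : LocallyOfFinitePresentation H.hom)
      (φ : Γ →* (Y ⟶ G)) (A : Over S) (p : P hH φ hn ⟶ A), Nonempty ((mtF G hG).RepresentableBy A) ∧
      Etale p.left ∧ Surjective p.left ∧ IsFinite p.left ∧ Smooth A.hom := by
  obtain ⟨H, υ, hH, hH1, hH2, hH3⟩ := HomFin.exists_rep G Γ
  have hH2' := hH2 inferInstance
  have hH3' := hH3 inferInstance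
  obtain ⟨φ, hφ⟩ := isFrame_of_points hG t ht ψ hsurj hinj
  have hgood : Good (TFmt.tfMT hG) n (H828.MTRep.elt hG t ht) := good_of_rigid hG t ht hsp hr
  have hqa : ∀ s : S, ∃ V : S.Opens, s ∈ V ∧ (Red.bc V.ι H).left.IsQuasiAffine := fun s => by
    obtain ⟨U, hU, hU', h⟩ := H813.QAChart.exists_nhd_homScheme G hconn hn hH s
    exact ⟨U, hU, h U hU' le_rfl⟩
  obtain ⟨A, p, r, h1, h2, h3, h4, -, -⟩ := TorQuot.exists_rep hH hn hgood hφ hΓ
    (OrbAff.exists_affine_orbit hH φ hn hqa)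
  exact ⟨H, υ, hH, hH2', φ, A, p, ⟨r⟩, h1, h2, h3, h4⟩

end Groth.Agent.Sga3.H796.LocalRep
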