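import Groth.Agent.Sga3.H796.Orbit
import Groth.Agent.Sga3.H813.FreeQA

/-!
# The quotient of the scheme of frames represents the functor

Let `𝒯` be a functor of subgroups of `G` (`Frame.TF`), `y₀` a section over an étale cover `Y` of `S`, with a
frame `φ : Γ → G(Y)` of its `n`-torsion, `n` good for `y₀`.  Then the open subscheme `P` of `Hom(Γ, G)` (`Orbit.P`) is
the scheme of frames of sections of `𝒯`, and if the orbits of `MulAut Γ` in `Hom(Γ, G)` lie in affine opens, the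
quotient of `P` by `MulAut Γ` represents `𝒯`.
-/

set_option autoImplicit false
universe u

open CategoryTheory MonoidalCategory CartesianMonoidalCategory MonObj GrpObj AlgebraicGeometry Limits Opposite

namespace Groth.Agent.Sga3.H796.TorQuot

open Groth.Agent.Sga3B Groth.Agent.Sga3.H796.AbsRep Groth.Agent.Sga3.H796.Frame Groth.Agent.Sga3.H797
  Groth.Agent.Sga3.H797.HomFin Groth.Agent.Sga3.H796.Orbit

variable {S : Scheme.{u}} {G : Over S} [GrpObj G] {𝒯 : TF G} {n : ℕ} {Γ : Type*} [Group Γ] {H : Over S}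
  {υ : Γ →* (H ⟶ G)} (hH : IsHomScheme G Γ H υ) {Y : Over S} {φ : Γ →* (Y ⟶ G)} [Finite Γ] [Smooth G.hom]
  [LocallyOfFinitePresentation H.hom] (hn : Inv (Nat.card Γ) S) [Etale Y.hom] [Surjective Y.hom]
  {y₀ : 𝒯.F.obj (op Y)}

/-- the tautological homomorphism over `P` -/
noncomputable abbrev taut : Γ →* (P hH φ hn ⟶ G) := (InfChart.pre G (jP hH φ hn)).comp υ

omit [Finite Γ] [Smooth G.hom] [LocallyOfFinitePresentation H.hom] [Etale Y.hom] [Surjective Y.hom] in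
/-- A conjugate of the frame `φ` is a frame of a section. -/
theorem exists_frame_conj (hφ : IsFrame 𝒯 n y₀ φ) {X : Over S} (ψ : Γ →* (X ⟶ G)) (a : X ⟶ Y) (g : X ⟶ G)
    (α : MulAut Γ) (h : ∀ γ, ψ γ = g * (a ≫ φ (α γ)) * g⁻¹) : ∃ z : 𝒯.F.obj (op X), IsFrame 𝒯 n z ψ ∧
      ∀ (Z : Over S) (b : Z ⟶ X) (σ : Z ⟶ G), 𝒯.In z b σ ↔ 𝒯.In y₀ (b ≫ a) ((b ≫ g)⁻¹ * σ * (b ≫ g)) := by
  obtain ⟨z, hz⟩ := 𝒯.conj (𝒯.F.map a.op y₀) g
  refine ⟨z, ?_, fun Z b σ => by rw [hz, 𝒯.in_map]⟩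
  have h1 := ((hφ.pull a).aut α).conj g hz
  have h2 : ψ = (MulAut.conj g).toMonoidHom.comp (((InfChart.pre G a).comp φ).comp α.toMonoidHom) :=
    MonoidHom.ext h
  rw [h2]
  exact h1

omit [Surjective Y.hom] in
/-- Points of `P` give frames, étale locally. -/
theorem loc_frame (hφ : IsFrame 𝒯 n y₀ φ) {X : Over S} (x : X ⟶ P hH φ hn) (t : X.left) :
    Loc t (fun X' f => ∃ z : 𝒯.F.obj (op X'), IsFrame 𝒯 n z ((InfChart.pre G (f ≫ x)).comp (taut hH hn))) := by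
  refine (loc_of_mem hH φ hn (x ≫ jP hH φ hn) t (comp_jP_mem hH φ hn x t)).mono ?_
  rintro X' f ⟨a, g, α, h⟩
  obtain ⟨z, hz, -⟩ := exists_frame_conj hφ ((InfChart.pre G (f ≫ x)).comp (taut hH hn)) a g α fun γ => by
    rw [← h γ]
    change (f ≫ x) ≫ jP hH φ hn ≫ υ γ = _
    simp only [Category.assoc]
  exact ⟨z, hz⟩

include hH hn in
/-- **The universal section over `P`.** -/
theorem exists_univ (hgood : Good 𝒯 n y₀) (hφ : IsFrame 𝒯 n y₀ φ) :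
    ∃ e : 𝒯.F.obj (op (P hH φ hn)), IsFrame 𝒯 n e (taut hH hn) := by
  choose X' f hf1 hf2 z hz using loc_frame hH hn hφ (𝟙 (P hH φ hn))
  obtain ⟨e, he, -⟩ := 𝒯.sheaf X' f hf1 (fun t => ⟨t, (hf2 t).choose, (hf2 t).choose_spec⟩) z (by
    intro i j R a b hab
    refine rig hgood ((hz i).pull a) ?_
    have h1 := (hz j).pull b
    have h2 : (InfChart.pre G a).comp ((InfChart.pre G (f i ≫ 𝟙 _)).comp (taut hH hn)) =
        (InfChart.pre G b).comp ((InfChart.pre G (f j ≫ 𝟙 _)).comp (taut hH hn)) := by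
      ext1 γ
      change a ≫ (f i ≫ 𝟙 _) ≫ taut hH hn γ = b ≫ (f j ≫ 𝟙 _) ≫ taut hH hn γ
      rw [Category.comp_id, Category.comp_id, ← Category.assoc, hab, Category.assoc]
    rw [h2]
    exact h1)
  refine ⟨e, isFrame_of_loc fun t => ⟨X' t, f t, hf1 t, hf2 t, ?_⟩⟩
  have h3 := hz t
  rw [← he t, Category.comp_id] at h3
  exact h3

/-- A homomorphism which is a frame of a section is a point of `P`. -/
theorem exists_point (hφ : IsFrame 𝒯 n y₀ φ) (hΓ : ∀ γ : Γ, γ ^ n = 1) {X : Over S}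
    (x : X ⟶ H) (z : 𝒯.F.obj (op X)) (hz : IsFrame 𝒯 n z ((InfChart.pre G x).comp υ)) :
    ∃ x' : X ⟶ P hH φ hn, x' ≫ jP hH φ hn = x := by
  refine exists_lift_P hH φ hn x fun t => mem_of_loc hH φ hn x t ?_
  obtain ⟨X₁, f₁, hf₁, ⟨t₁, ht₁⟩, a, g, hg⟩ := loc_conj y₀ z t
  obtain ⟨w, hw1, hw2⟩ := exists_frame_conj hφ ((MulAut.conj g).toMonoidHom.comp ((InfChart.pre G a).comp φ)) a g 1
    fun γ => rfl
  have hwz : w = 𝒯.F.map f₁.op z := 𝒯.ext _ _ fun Z b σ => by rw [hw2, 𝒯.in_map, hg]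
  subst hwz
  refine Loc.trans f₁ ht₁ ((exists_aut hΓ hw1 (hz.pull f₁) t₁).mono ?_)
  rintro X₂ f₂ ⟨α, hα⟩
  refine ⟨f₂ ≫ a, f₂ ≫ g, α, fun γ => ?_⟩
  have h1 : f₂ ≫ f₁ ≫ x ≫ υ γ = f₂ ≫ (g * (a ≫ φ (α γ)) * g⁻¹) := hα γ
  rw [Category.assoc, h1, MonObj.comp_mul, MonObj.comp_mul, GrpObj.comp_inv, Category.assoc]

/-- The scheme `P` of frames and the functor `𝒯`. -/
theorem exists_torsor (hgood : Good 𝒯 n y₀) (hφ : IsFrame 𝒯 n y₀ φ) (hΓ : ∀ γ : Γ, γ ^ n = 1) :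
    ∃ e : 𝒯.F.obj (op (P hH φ hn)), IsFrame 𝒯 n e (taut hH hn) ∧
      (∀ α, 𝒯.F.map (actP hH φ hn α).op e = e) ∧
      (∀ (K : Type u) [Field K] [IsAlgClosed K] (ξ : Spec (CommRingCat.of K) ⟶ (P hH φ hn).left)
        (α : MulAut Γ), ξ ≫ (actP hH φ hn α).left = ξ → α = 1) ∧
      (∀ (X : Over S) (x : 𝒯.F.obj (op X)) (t : X.left),
        Loc t (fun X' f => ∃ a : X' ⟶ P hH φ hn, 𝒯.F.map a.op e = 𝒯.F.map f.op x)) ∧
      (∀ (X : Over S) (a b : X ⟶ P hH φ hn), 𝒯.F.map a.op e = 𝒯.F.map b.op e → ∀ t : X.left,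
        Loc t (fun _ f => ∃ α, f ≫ b = f ≫ a ≫ actP hH φ hn α)) := by
  obtain ⟨e, he⟩ := exists_univ hH hn hgood hφ
  have hact : ∀ α, 𝒯.F.map (actP hH φ hn α).op e = e := fun α => by
    refine rig hgood (he.pull _) ?_
    have h1 : (InfChart.pre G (actP hH φ hn α)).comp (taut hH hn) = (taut hH hn).comp α⁻¹.toMonoidHom := by
      ext1 γ
      change actP hH φ hn α ≫ jP hH φ hn ≫ υ γ = jP hH φ hn ≫ υ (α⁻¹ γ)
      rw [actP_jP_assoc, act_comp]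
    rw [h1]
    exact he.aut α⁻¹
  have hfree : ∀ (K : Type u) [Field K] [IsAlgClosed K] (ξ : Spec (CommRingCat.of K) ⟶ (P hH φ hn).left)
      (α : MulAut Γ), ξ ≫ (actP hH φ hn α).left = ξ → α = 1 := by
    intro K _ _ ξ α hα
    let Z : Over S := Over.mk (ξ ≫ (P hH φ hn).hom)
    let x : Z ⟶ P hH φ hn := Over.homMk ξ rfl
    have hx : x ≫ actP hH φ hn α = x := Over.OverMorphism.ext hα
    have hne : Nonempty Z.left := ⟨IsLocalRing.closedPoint K⟩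
    have h1 : ∀ γ, α⁻¹ γ = γ := fun γ => by
      refine he.inj x hne _ _ ?_
      change x ≫ jP hH φ hn ≫ υ (α⁻¹ γ) = x ≫ jP hH φ hn ≫ υ γ
      rw [← act_comp hH, ← actP_jP_assoc, ← Category.assoc, hx]
    have h2 : α⁻¹ = 1 := MulEquiv.ext h1
    exact inv_eq_one.1 h2
  have hsurj : ∀ (X : Over S) (x : 𝒯.F.obj (op X)) (t : X.left),
      Loc t (fun X' f => ∃ a : X' ⟶ P hH φ hn, 𝒯.F.map a.op e = 𝒯.F.map f.op x) := by
    intro X x t
    refine (loc_conj y₀ x t).mono ?_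
    rintro X' f ⟨a, g, hg⟩
    obtain ⟨w, hw1, hw2⟩ := exists_frame_conj hφ
      ((MulAut.conj g).toMonoidHom.comp ((InfChart.pre G a).comp φ)) a g 1 fun γ => rfl
    have hwz : w = 𝒯.F.map f.op x := 𝒯.ext _ _ fun Z b σ => by rw [hw2, 𝒯.in_map, hg]
    subst hwz
    have h2 : (InfChart.pre G (toH hH ((MulAut.conj g).toMonoidHom.comp ((InfChart.pre G a).comp φ)))).comp υ =
        (MulAut.conj g).toMonoidHom.comp ((InfChart.pre G a).comp φ) :=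
      MonoidHom.ext fun γ => toH_comp hH _ γ
    obtain ⟨x', hx'⟩ := exists_point hH hn hφ hΓ
      (toH hH ((MulAut.conj g).toMonoidHom.comp ((InfChart.pre G a).comp φ))) (𝒯.F.map f.op x) (by rw [h2]; exact hw1)
    refine ⟨x', rig hgood (he.pull x') ?_⟩
    have h3 : (InfChart.pre G x').comp (taut hH hn) =
        (MulAut.conj g).toMonoidHom.comp ((InfChart.pre G a).comp φ) := by
      rw [← h2]
      ext1 γ
      change x' ≫ jP hH φ hn ≫ υ γ = _ ≫ υ γ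
      rw [← Category.assoc, hx']
    rw [h3]
    exact hw1
  have hfib : ∀ (X : Over S) (a b : X ⟶ P hH φ hn), 𝒯.F.map a.op e = 𝒯.F.map b.op e → ∀ t : X.left,
      Loc t (fun _ f => ∃ α, f ≫ b = f ≫ a ≫ actP hH φ hn α) := by
    intro X a b hab t
    have h1 := he.pull a
    have h2 := he.pull b
    rw [← hab] at h2
    refine (exists_aut hΓ h1 h2 t).mono ?_
    rintro X' f ⟨α, hα⟩
    refine ⟨α⁻¹, ?_⟩
    rw [← cancel_mono (jP hH φ hn), Category.assoc, Category.assoc, Category.assoc, actP_jP]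
    refine H_ext hH fun γ => ?_
    have h3 : f ≫ b ≫ jP hH φ hn ≫ υ γ = f ≫ a ≫ jP hH φ hn ≫ υ (α γ) := hα γ
    simp only [Category.assoc]
    rw [h3, act_comp, _root_.inv_inv]
  exact ⟨e, he, hact, hfree, hsurj, hfib⟩

omit [Surjective Y.hom] in
theorem smooth_P : Smooth (P hH φ hn).hom := by
  have h1 : Smooth H.hom := smooth_rep hH hn
  exact inferInstanceAs (Smooth ((PO hH φ hn).ι ≫ H.hom))

/-- **Main theorem.** -/
theorem exists_rep {Γ : Type u} [Group Γ] [Finite Γ] {υ : Γ →* (H ⟶ G)} (hH : IsHomScheme G Γ H υ)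
    {φ : Γ →* (Y ⟶ G)} (hn : Inv (Nat.card Γ) S)
    (hgood : Good 𝒯 n y₀) (hφ : IsFrame 𝒯 n y₀ φ) (hΓ : ∀ γ : Γ, γ ^ n = 1)
    (haff : ∀ x : (P hH φ hn).left, ∃ U : (P hH φ hn).left.Opens, IsAffineOpen U ∧
      ∀ α : MulAut Γ, (actP hH φ hn α).left x ∈ U) :
    ∃ (M : Over S) (p : P hH φ hn ⟶ M) (r : 𝒯.F.RepresentableBy M), Etale p.left ∧ Surjective p.left ∧
      IsFinite p.left ∧ Smooth M.hom ∧ (∀ α, actP hH φ hn α ≫ p = p) ∧
      IsFrame 𝒯 n (r.homEquiv p) (taut hH hn) := by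
  obtain ⟨e, he, hact, hfree, hsurj, hfib⟩ := exists_torsor hH hn hgood hφ hΓ
  have hsm := smooth_P hH hn (φ := φ)
  obtain ⟨M, p, r, h1, h2, h3, h4, h5, h6⟩ := AbsRep.exists_rep 𝒯.sheaf (P hH φ hn) (actPH hH φ hn) hfree haff e hact
    hsurj hfib
  exact ⟨M, p, r, h1, h2, h3, h4, h5, h6 ▸ he⟩

/-- **Main theorem**, quasi-affine version. -/
theorem exists_rep_quasiAffine {Γ : Type u} [Group Γ] [Finite Γ] {υ : Γ →* (H ⟶ G)} (hH : IsHomScheme G Γ H υ)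
    {φ : Γ →* (Y ⟶ G)} (hn : Inv (Nat.card Γ) S)
    (hgood : Good 𝒯 n y₀) (hφ : IsFrame 𝒯 n y₀ φ) (hΓ : ∀ γ : Γ, γ ^ n = 1)
    [hqa : (P hH φ hn).left.IsQuasiAffine] :
    ∃ (M : Over S) (p : P hH φ hn ⟶ M) (r : 𝒯.F.RepresentableBy M), Etale p.left ∧ Surjective p.left ∧
      IsFinite p.left ∧ Smooth M.hom ∧ M.left.IsQuasiAffine ∧ (∀ α, actP hH φ hn α ≫ p = p) ∧
      IsFrame 𝒯 n (r.homEquiv p) (taut hH hn) := by
  obtain ⟨e, he, hact, hfree, hsurj, hfib⟩ := exists_torsor hH hn hgood hφ hΓ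
  have hsm := smooth_P hH hn (φ := φ)
  obtain ⟨M, p, hp1, hp2, hp3, hM, hqaM, hinv, hloc⟩ := H813.FreeQA.exists_freeQuot (P hH φ hn) (actPH hH φ hn) hfree
  obtain ⟨r, hr⟩ := rep_of_quot 𝒯.sheaf (fun α => actP hH φ hn α) p hinv hloc e hact hsurj hfib
  exact ⟨M, p, r, hp1, hp2, hp3, hM, hqaM, hinv, hr ▸ he⟩

end Groth.Agent.Sga3.H796.TorQuot
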