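import Groth.Agent.Sga3B.CentSmooth
import Groth.Agent.Sga3B.TorSep602
import Groth.Agent.Sga3B.TorTransp

/-!
# Strict transporters of homomorphisms from tori into smooth separated groups

`G` a smooth separated group scheme over `S` (any base), `Q` an `S`-torus, `a b : Q ⟶ G` homomorphisms.
The functor `{g : g a g⁻¹ = b}` is represented by a closed subscheme of `G`, locally of finite presentation,
which is smooth over `S`.

* `exists_transp`: representability by a closed subscheme (`Q` smooth and geometrically irreducible,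
  `G` separated, `a b` arbitrary morphisms);
* `transp_lift`: the infinitesimal lifting property over local rings;
* `smooth_transp`: every representing subscheme is smooth;
* `exists_smooth_transp`: everything together.
-/

set_option autoImplicit false
universe u
open CategoryTheory MonoidalCategory CartesianMonoidalCategory MonObj GrpObj AlgebraicGeometry Limits

namespace Groth.Agent.Sga3.H796.Transp

open Groth.Agent.Sga3B
open InfConj InfConjFam DSPts DSRigid CentRep CentLift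
open Groth.Agent.Sga3B.TorTransp (Transp)

variable {S : Scheme.{u}}

lemma transp_iff {T G : Over S} [GrpObj G] (a b : T ⟶ G) {X : Over S} (g : X ⟶ G) :
    Transp a b g ↔ (snd T X ≫ g) * (fst T X ≫ a) * (snd T X ≫ g)⁻¹ = fst T X ≫ b := by
  constructor
  · intro h
    exact h _ _ _
  · intro h Y y q
    have h1 := congrArg (fun f => lift q y ≫ f) h
    simp only [MonObj.comp_mul, GrpObj.comp_inv, ← Category.assoc, lift_fst, lift_snd] at h1
    exact h1

/-- Representability of the strict transporter by a closed subscheme. -/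
theorem exists_transp {T G : Over S} [GrpObj G] [Smooth T.hom] [GeometricallyIrreducible T.hom]
    [IsSeparated G.hom] (a b : T ⟶ G) :
    ∃ (Z : Over S) (z : Z ⟶ G), IsClosedImmersion z.left ∧
      (∀ (X : Over S) (g : X ⟶ G), (∃ c : X ⟶ Z, c ≫ z = g) ↔ Transp a b g) ∧
      (LocallyOfFiniteType G.hom → LocallyOfFinitePresentation z.left) := by
  obtain ⟨Z, z, hz, h, hfp⟩ := TorSep602.exists_agree T G G
    ((snd T G) * (fst T G ≫ a) * (snd T G)⁻¹) (fst T G ≫ b)
  refine ⟨Z, z, hz, fun X g => ?_, hfp⟩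
  rw [h, transp_iff]
  have e1 : (T ◁ g) ≫ ((snd T G) * (fst T G ≫ a) * (snd T G)⁻¹) =
      (snd T X ≫ g) * (fst T X ≫ a) * (snd T X ≫ g)⁻¹ := by
    simp only [MonObj.comp_mul, GrpObj.comp_inv, whiskerLeft_snd, whiskerLeft_fst_assoc]
  have e2 : (T ◁ g) ≫ fst T G ≫ b = fst T X ≫ b := by
    rw [whiskerLeft_fst_assoc]
  rw [e1, e2]

section

variable {G Q : Over S} [GrpObj G] [GrpObj Q] (a b : Q ⟶ G) [IsMonHom a] [IsMonHom b]
  {B : Type u} [CommRing B] [IsLocalRing B] (I : Ideal B) (hI : I * I = ⊥)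
  (x : Spec (CommRingCat.of B) ⟶ S) {M : Type} [AddCommGroup M]
  (hQ : Red.IsSplitTorusWith M (Red.bc x Q)) [IsSeparated G.hom]

include hI hQ

/-- A point which conjugates `a` into `b` modulo `I` can be corrected to a point
conjugating `a` into `b`. -/
theorem transp_lift (g₁ : Over.mk x ⟶ G) (h₁ : Transp a b (redMap x I ≫ g₁)) :
    ∃ w : Over.mk x ⟶ G, redMap x I ≫ w = 1 ∧ Transp a b (w⁻¹ * g₁) := by
  obtain ⟨e, he, ψ, hψ1, hψ2⟩ := exists_isIsoFamily x hQ
  let α : Red.DS S M ⊗ Over.mk x ⟶ G := (snd _ _ ≫ g₁) * (e ≫ a) * (snd _ _ ≫ g₁)⁻¹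
  let β : Red.DS S M ⊗ Over.mk x ⟶ G := e ≫ b
  have hα' : ∀ (T : Over S) (d : T ⟶ Red.DS S M) (t : T ⟶ Over.mk x),
      lift d t ≫ α = (t ≫ g₁) * (lift d t ≫ e ≫ a) * (t ≫ g₁)⁻¹ := by
    intro T d t
    simp only [α, MonObj.comp_mul, GrpObj.comp_inv, lift_snd_assoc]
  have hβ' : ∀ (T : Over S) (d : T ⟶ Red.DS S M) (t : T ⟶ Over.mk x),
      lift d t ≫ β = lift d t ≫ e ≫ b := fun _ _ _ => rfl
  have hea : ∀ (T : Over S) (d₁ d₂ : T ⟶ Red.DS S M) (t : T ⟶ Over.mk x),
      lift (d₁ * d₂) t ≫ e ≫ a = (lift d₁ t ≫ e ≫ a) * (lift d₂ t ≫ e ≫ a) := by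
    intro T d₁ d₂ t
    rw [← Category.assoc, he, MonObj.mul_comp, Category.assoc, Category.assoc]
  have hβ : AutFam.IsHomFamily (Red.DS S M) G β := by
    intro T d₁ d₂ t
    rw [hβ', hβ', hβ', ← Category.assoc, he, MonObj.mul_comp, Category.assoc, Category.assoc]
  have hα : AutFam.IsHomFamily (Red.DS S M) G α := by
    intro T d₁ d₂ t
    rw [hα', hα', hα', hea]
    group
  obtain ⟨w, hw1, hw2⟩ := infConj_family x G I hI (LocalLift.hasAffineUnitNhd_of_isLocalRing _) α β hα hβ (by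
    have h2 := h₁ (Red.DS S M ⊗ _) (snd _ _) ((Red.DS S M ◁ redMap x I) ≫ e)
    have h3 : (Red.DS S M ◁ redMap x I) ≫ α = (snd _ _ ≫ redMap x I ≫ g₁) *
        (((Red.DS S M ◁ redMap x I) ≫ e) ≫ a) * (snd _ _ ≫ redMap x I ≫ g₁)⁻¹ := by
      simp only [α, MonObj.comp_mul, GrpObj.comp_inv, whiskerLeft_snd_assoc, Category.assoc]
    rw [h3, h2, Category.assoc])
  refine ⟨w, hw1, ?_⟩
  intro T t h
  have h4 := hw2 T (lift h t ≫ ψ) t
  rw [hα', hβ', ← Category.assoc, ← Category.assoc, hψ2] at h4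
  have h5 := congrArg (fun z => (t ≫ w)⁻¹ * z * (t ≫ w)) h4
  rw [MonObj.comp_mul, GrpObj.comp_inv]
  convert! h5 using 1 <;> group

end

section

variable {G Q : Over S} [GrpObj G] [GrpObj Q] (hQ : Red.IsTorus Q)

include hQ

/-- A strict transporter between two homomorphisms from a torus is smooth. -/
theorem smooth_transp [Smooth G.hom] [IsSeparated G.hom] (a b : Q ⟶ G) [IsMonHom a] [IsMonHom b]
    {Z : Over S} (z : Z ⟶ G) [Mono z] [LocallyOfFinitePresentation z.left]
    (hz : ∀ (X : Over S) (g : X ⟶ G), (∃ c : X ⟶ Z, c ≫ z = g) ↔ Transp a b g) : Smooth Z.hom := by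
  obtain ⟨S', f, hf, hs, hc, h⟩ := hQ
  refine CentSmooth.smooth_of_lift z (fun T => {g | Transp a b g}) hz f hc fun s' => ?_
  obtain ⟨U, hU, r, hr⟩ := h s'
  refine ⟨U, hU, fun B _ _ I hI x β hx g₁ hg₁ => ?_⟩
  subst hx
  exact transp_lift a b I hI _ (CentSmooth.isSplit_bc _ β hr) g₁ hg₁

/-- **The strict transporter** of two homomorphisms from a torus into a smooth separated group. -/
theorem exists_smooth_transp [Smooth G.hom] [IsSeparated G.hom] (a b : Q ⟶ G) [IsMonHom a] [IsMonHom b] :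
    ∃ (Z : Over S) (z : Z ⟶ G), IsClosedImmersion z.left ∧ LocallyOfFinitePresentation z.left ∧
      Smooth Z.hom ∧ ∀ (X : Over S) (g : X ⟶ G), (∃ c : X ⟶ Z, c ≫ z = g) ↔ Transp a b g := by
  have := TorusAlgClosed.smooth_of_isTorus hQ
  have := TorusIrr.geometricallyIrreducible_of_isTorus hQ
  obtain ⟨Z, z, hz, hzc, hfp⟩ := exists_transp a b
  have hfp' := hfp inferInstance
  have : Mono z := Over.mono_of_mono_left z
  exact ⟨Z, z, hz, hfp', smooth_transp hQ a b z hzc, hzc⟩

end

end Groth.Agent.Sga3.H796.Transp
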